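import Cfsg.Agent.H69.OreSp.Levi
import Cfsg.Agent.Symplectic.AltStd
import Cfsg.Agent.Symplectic.Center

/-!
Good isometries: those conjugate to `U⁻ U⁺`.
-/

set_option autoImplicit false
set_option linter.unusedSectionVars false

namespace Cfsg.Agent.H69.OreSp

open Cfsg.Agent.Symplectic Module
open LinearMap (BilinForm)
open scoped Matrix

variable {F V V' : Type*} [Field F] [AddCommGroup V] [Module F V] [AddCommGroup V'] [Module F V']

/-- A Lagrangian `E` with `(g - 1) E` isotropic and fixed points only in `E ∩ g⁻¹ E`. -/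
def GoodI {B : BilinForm F V} (g : Isom B) : Prop :=
  ∃ E : Submodule F V, finrank F V = 2 * finrank F E ∧ (∀ x ∈ E, ∀ y ∈ E, B x y = 0) ∧
    (∀ x ∈ E, ∀ y ∈ E, B (g.1 x - x) (g.1 y - y) = 0) ∧ ∀ x ∈ E, g.1 x ∈ E → g.1 x = x

theorem GoodI.congr {B : BilinForm F V} {B' : BilinForm F V'} (e : V ≃ₗ[F] V')
    (h : ∀ u v, B' (e u) (e v) = B u v) {g : Isom B} (hg : GoodI g) : GoodI (isomCongr e h g) := by
  obtain ⟨E, hd, hi, hn, hf⟩ := hg
  have happ : ∀ x, (isomCongr e h g).1 (e x) = e (g.1 x) := fun x => by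
    show e (g.1 (e.symm (e x))) = _
    rw [e.symm_apply_apply]
  refine ⟨E.map (e : V →ₗ[F] V'), by rw [LinearEquiv.finrank_map_eq, ← e.finrank_eq, hd], ?_, ?_, ?_⟩
  · rintro _ ⟨x, hx, rfl⟩ _ ⟨y, hy, rfl⟩
    rw [LinearEquiv.coe_coe, h]; exact hi x hx y hy
  · rintro _ ⟨x, hx, rfl⟩ _ ⟨y, hy, rfl⟩
    simp only [LinearEquiv.coe_coe, happ, ← map_sub, h]
    exact hn x hx y hy
  · rintro _ ⟨x, hx, rfl⟩ ⟨y, hy, hxy⟩
    simp only [LinearEquiv.coe_coe, happ] at hxy ⊢
    rw [hf x hx (e.injective hxy ▸ hy)]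

theorem exists_complement_lagrangian [FiniteDimensional F V] {B : BilinForm F V} (hA : B.IsAlt)
    (hB : B.Nondegenerate) (E : Submodule F V) (hd : finrank F V = 2 * finrank F E)
    (hi : ∀ x ∈ E, ∀ y ∈ E, B x y = 0) :
    ∀ (k : ℕ) (L : Submodule F V), finrank F E - finrank F L = k →
      (∀ x ∈ L, ∀ y ∈ L, B x y = 0) → (∀ x ∈ L, x ∈ E → x = 0) →
      ∃ L' : Submodule F V, L ≤ L' ∧ finrank F L' = finrank F E ∧
        (∀ x ∈ L', ∀ y ∈ L', B x y = 0) ∧ ∀ x ∈ L', x ∈ E → x = 0 := by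
  have hle : ∀ L : Submodule F V, (∀ x ∈ L, ∀ y ∈ L, B x y = 0) → finrank F L ≤ finrank F E := by
    intro L hL
    have : L ≤ B.orthogonal L := fun y hy x hx => hL x hx y hy
    have h1 := Submodule.finrank_mono this
    rw [BilinForm.finrank_orthogonal hB] at h1
    omega
  intro k
  induction k using Nat.strong_induction_on with
  | _ k ih =>
    intro L hk hL hLE
    by_cases h0 : finrank F E ≤ finrank F L
    · exact ⟨L, le_rfl, le_antisymm (hle L hL) h0, hL, hLE⟩
    obtain ⟨x, hxo, hx⟩ : ∃ x ∈ B.orthogonal L, x ∉ L ⊔ (B.orthogonal L ⊓ E) := by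
      by_contra hcon
      push Not at hcon
      have h1 := Submodule.finrank_mono (fun x hx => hcon x hx : B.orthogonal L ≤ _)
      rw [BilinForm.finrank_orthogonal hB] at h1
      have h2 := Submodule.finrank_add_le_finrank_add_finrank L (B.orthogonal L ⊓ E)
      have h3 : B.orthogonal L ⊓ E ≤ B.orthogonal (L ⊔ E) := by
        intro y hy z hz
        obtain ⟨a, ha, b, hb, rfl⟩ := Submodule.mem_sup.1 hz
        show B (a + b) y = 0
        rw [map_add, LinearMap.add_apply, hy.1 a ha, hi b hb y hy.2, add_zero]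
      have h4 := Submodule.finrank_mono h3
      rw [BilinForm.finrank_orthogonal hB] at h4
      have h5 := Submodule.finrank_sup_add_finrank_inf_eq L E
      have h6 : L ⊓ E = ⊥ := by
        rw [eq_bot_iff]
        exact fun y hy => (Submodule.mem_bot F).2 (hLE y hy.1 hy.2)
      rw [h6, finrank_bot] at h5
      have h7 := Submodule.finrank_le (L ⊔ E)
      omega
    have hL' : ∀ a ∈ L ⊔ Submodule.span F {x}, ∀ b ∈ L ⊔ Submodule.span F {x}, B a b = 0 := by
      intro a ha b hb
      obtain ⟨a₁, ha₁, a₂, ha₂, rfl⟩ := Submodule.mem_sup.1 ha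
      obtain ⟨b₁, hb₁, b₂, hb₂, rfl⟩ := Submodule.mem_sup.1 hb
      obtain ⟨c, rfl⟩ := Submodule.mem_span_singleton.1 ha₂
      obtain ⟨c', rfl⟩ := Submodule.mem_span_singleton.1 hb₂
      have e1 : B a₁ x = 0 := hxo a₁ ha₁
      have e2 : B x b₁ = 0 := by rw [alt_swap hA, hxo b₁ hb₁, neg_zero]
      simp [map_add, map_smul, hL a₁ ha₁ b₁ hb₁, e1, e2, alt_self hA]
    have hlt : L < L ⊔ Submodule.span F {x} := by
      refine lt_of_le_of_ne le_sup_left fun e => hx (Submodule.mem_sup_left ?_)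
      rw [e]
      exact Submodule.mem_sup_right (Submodule.mem_span_singleton_self x)
    have hfl := Submodule.finrank_lt_finrank_of_lt hlt
    obtain ⟨L', h1, h2⟩ := ih _ (by have := hle _ hL'; omega) (L ⊔ Submodule.span F {x}) rfl hL' (by
      intro a ha haE
      obtain ⟨a₁, ha₁, a₂, ha₂, rfl⟩ := Submodule.mem_sup.1 ha
      obtain ⟨c, rfl⟩ := Submodule.mem_span_singleton.1 ha₂
      by_cases hc : c = 0
      · subst hc
        rw [zero_smul, add_zero] at haE ⊢
        exact hLE a₁ ha₁ haE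
      · exfalso
        apply hx
        have hmem : a₁ + c • x ∈ B.orthogonal L ⊓ E :=
          ⟨(B.orthogonal L).add_mem (fun y hy => hL y hy a₁ ha₁) ((B.orthogonal L).smul_mem c hxo), haE⟩
        have : x = c⁻¹ • (-a₁) + c⁻¹ • (a₁ + c • x) := by
          rw [smul_add c⁻¹ a₁, smul_neg, neg_add_cancel_left, smul_smul, inv_mul_cancel₀ hc, one_smul]
        rw [this]
        exact Submodule.add_mem _ (Submodule.mem_sup_left (L.smul_mem _ (L.neg_mem ha₁)))
          (Submodule.mem_sup_right (Submodule.smul_mem _ _ hmem)))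
    exact ⟨L', le_sup_left.trans h1, h2⟩

variable [FiniteDimensional F V]

theorem exists_conj_block {m : ℕ} (g : SpM m F) (hg : GoodI (spEquiv m F g)) :
    ∃ h : SpM m F, ((h * g * h⁻¹ : SpM m F) : Mat m F).toBlocks₁₁ = 1 := by
  classical
  obtain ⟨E, hd, hi, hn, hf⟩ := hg
  set d : (Fin m ⊕ Fin m → F) →ₗ[F] (Fin m ⊕ Fin m → F) :=
    (spEquiv m F g).1.toLinearMap - LinearMap.id with hddef
  have hA := spB_alt m F
  have hB := spB_nondeg m F
  obtain ⟨L, hL, hLd, hLi, hLE⟩ := exists_complement_lagrangian hA hB E hd hi _ (E.map d) rfl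
    (by rintro _ ⟨x, hx, rfl⟩ _ ⟨y, hy, rfl⟩; exact hn x hx y hy)
    (by
      rintro _ ⟨x, hx, rfl⟩ hxE
      have hgx : (spEquiv m F g).1 x ∈ E := by
        have := E.add_mem hxE hx
        simpa [hddef] using this
      simp [hddef]; rw [← spEquiv_apply, hf x hx hgx]; simp)
  have hEm : finrank F E = m := by
    rw [finrank_pi, Fintype.card_sum, Fintype.card_fin] at hd
    omega
  let e : Basis (Fin m) F E := (finBasis F E).reindex (finCongr hEm)
  -- the pairing of `L` with `E`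
  let ψ : L →ₗ[F] (Fin m → F) :=
    LinearMap.pi fun i => ((spB m F).flip (e i : Fin m ⊕ Fin m → F)).comp L.subtype
  have hψ : Function.Bijective ψ := by
    have hinj : Function.Injective ψ := by
      rw [← LinearMap.ker_eq_bot, LinearMap.ker_eq_bot']
      intro y hy
      refine Subtype.ext (hLE _ y.2 ?_)
      have hE : E ≤ (spB m F).orthogonal E := fun b hb a ha => hi a ha b hb
      have hEeq : E = (spB m F).orthogonal E := Submodule.eq_of_le_of_finrank_eq hE (by
        rw [BilinForm.finrank_orthogonal hB, hd]; omega)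
      rw [hEeq]
      intro a ha
      have h2 : ∀ i, spB m F (y : Fin m ⊕ Fin m → F) (e i) = 0 := fun i => congrFun hy i
      have : ((spB m F (y : Fin m ⊕ Fin m → F)).comp E.subtype) = 0 := e.ext fun i => by simpa using h2 i
      rw [alt_swap hA]
      have h3 := LinearMap.congr_fun this ⟨a, ha⟩
      simp only [LinearMap.comp_apply, Submodule.subtype_apply, LinearMap.zero_apply] at h3
      rw [h3, neg_zero]
    have hdim : finrank F L = finrank F (Fin m → F) := by rw [hLd, hEm]; simp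
    exact ⟨hinj, (LinearMap.injective_iff_surjective_of_finrank_eq_finrank hdim).1 hinj⟩
  let f : Fin m → L := fun i => (LinearEquiv.ofBijective ψ hψ).symm (Pi.single i 1)
  let a : Fin m ⊕ Fin m → (Fin m ⊕ Fin m → F) := Sum.elim (fun i => (e i : _)) fun i => (f i : _)
  have hfe : ∀ i j, spB m F (f i : Fin m ⊕ Fin m → F) (e j) = if j = i then 1 else 0 := by
    intro i j
    have := congrFun ((LinearEquiv.ofBijective ψ hψ).apply_symm_apply (Pi.single i 1)) j
    rw [Pi.single_apply] at this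
    exact this
  have hgram : ∀ i j, Cfsg.sympForm m F (a i) (a j) = Matrix.J (Fin m) F i j := by
    intro i j
    rw [← spB_apply]
    rcases i with i | i <;> rcases j with j | j
    · show spB m F (e i : Fin m ⊕ Fin m → F) (e j) = _
      rw [hi _ (e i).2 _ (e j).2]; simp [Matrix.J]
    · show spB m F (e i : Fin m ⊕ Fin m → F) (f j) = _
      rw [alt_swap hA, hfe]
      by_cases h : i = j <;> simp [Matrix.J, h]
    · show spB m F (f i : Fin m ⊕ Fin m → F) (e j) = _
      rw [hfe]
      by_cases h : i = j <;> simp [Matrix.J, h, Ne.symm, eq_comm]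
    · show spB m F (f i : Fin m ⊕ Fin m → F) (f j) = _
      rw [hLi _ (f i).2 _ (f j).2]; simp [Matrix.J]
  have hind : LinearIndependent F a := by
    rw [Fintype.linearIndependent_iff]
    intro c hc
    have key : ∀ w, ∑ i, c i * Cfsg.sympForm m F (a i) w = 0 := fun w => by
      have := congrArg (fun z => spB m F z w) hc
      simpa [map_sum, LinearMap.sum_apply] using this
    intro i
    rcases i with i | i
    · have := key (a (Sum.inr i))
      simpa [hgram, Fintype.sum_sum_type, Matrix.J, Matrix.one_apply] using this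
    · have := key (a (Sum.inl i))
      simpa [hgram, Fintype.sum_sum_type, Matrix.J, Matrix.one_apply] using this
  obtain ⟨H, hH⟩ := exists_sp_map a (fun i => Pi.single i 1) hind
    (Pi.linearIndependent_single_one (Fin m ⊕ Fin m) F)
    (fun i j => by rw [hgram, ← spB_apply, spB_single])
  refine ⟨H, ?_⟩
  ext i j
  set g' := H * g * H⁻¹
  rw [Matrix.toBlocks₁₁, Matrix.of_apply]
  have hz : (g : Mat m F) *ᵥ a (Sum.inl j) - a (Sum.inl j) ∈ L := by
    refine hL ⟨(e j : _), (e j).2, ?_⟩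
    simp [hddef, a]
  obtain ⟨c, hc⟩ : ∃ c : Fin m → F, (g : Mat m F) *ᵥ a (Sum.inl j) - a (Sum.inl j) = ∑ k, c k • a (Sum.inr k) := by
    refine ⟨ψ ⟨_, hz⟩, ?_⟩
    have : (LinearEquiv.ofBijective ψ hψ).symm (ψ ⟨_, hz⟩) = ∑ k, ψ ⟨_, hz⟩ k • f k := by
      rw [show ψ ⟨_, hz⟩ = ∑ k, ψ ⟨_, hz⟩ k • Pi.single k (1 : F) from pi_eq_sum_univ' _]
      simp [f, map_sum, Finset.sum_apply, Pi.single_apply]
    rw [show (LinearEquiv.ofBijective ψ hψ).symm (ψ ⟨_, hz⟩) = ⟨_, hz⟩ from
      (LinearEquiv.ofBijective ψ hψ).symm_apply_apply _] at this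
    simpa [a] using congrArg Subtype.val this
  have hcol : (g' : Mat m F) *ᵥ Pi.single (Sum.inl j) 1 =
      Pi.single (Sum.inl j) 1 + ∑ k, c k • Pi.single (Sum.inr k) (1 : F) := by
    rw [← hH, Matrix.mulVec_mulVec, ← Submonoid.coe_mul, inv_mul_cancel_right, Submonoid.coe_mul,
      ← Matrix.mulVec_mulVec, sub_eq_iff_eq_add'.1 hc, Matrix.mulVec_add, Matrix.mulVec_sum]
    simp only [Matrix.mulVec_smul, hH]
  have := congrFun hcol (Sum.inl i)
  simp [Matrix.mulVec_single_one, Pi.single_apply] at this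
  simpa [Matrix.one_apply] using this

theorem isCom_of_good {m : ℕ} [Fintype F] (g : SpM m F) (hg : GoodI (spEquiv m F g)) (A : (MM m F)ˣ)
    (hA : Reg A.1) : IsCom g := by
  obtain ⟨h, hh⟩ := exists_conj_block g hg
  exact (isCom_of_block _ A 1 hA (by rw [hh]; simp)).conj h

theorem even_finrank {B : BilinForm F V} (hA : B.IsAlt) (hB : B.Nondegenerate) :
    ∃ m, finrank F V = 2 * m := by
  obtain ⟨m, -, hm, -⟩ := exists_std_equiv hA hB
  exact ⟨m, hm⟩

/-! ### Orthogonal sums -/

section Sum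

variable {B : BilinForm F V} (hA : B.IsAlt) (hB : B.Nondegenerate) {P : Submodule F V}
  (hP : (B.restrict P).Nondegenerate)

theorem restrict_alt (P : Submodule F V) {B : BilinForm F V} (hA : B.IsAlt) : (B.restrict P).IsAlt :=
  fun x => hA x

/-- Isometries of the two summands give an isometry. -/
noncomputable def sumHom :
    Isom (B.restrict P) × Isom (B.restrict (B.orthogonal P)) →* Isom B where
  toFun ac := ⟨(Submodule.prodEquivOfIsCompl _ _ (isCompl_orth hA.isRefl hB hP)).symm.trans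
      ((ac.1.1.prodCongr ac.2.1).trans (Submodule.prodEquivOfIsCompl _ _ (isCompl_orth hA.isRefl hB hP))),
    fun u v => by
      obtain ⟨⟨p, r⟩, rfl⟩ := (Submodule.prodEquivOfIsCompl _ _ (isCompl_orth hA.isRefl hB hP)).surjective u
      obtain ⟨⟨p', r'⟩, rfl⟩ := (Submodule.prodEquivOfIsCompl _ _ (isCompl_orth hA.isRefl hB hP)).surjective v
      simp only [LinearEquiv.trans_apply, LinearEquiv.symm_apply_apply]
      simp only [LinearEquiv.prodCongr_apply, Submodule.coe_prodEquivOfIsCompl']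
      rw [split_apply hA.isRefl, split_apply hA.isRefl]
      exact congrArg₂ (· + ·) (ac.1.2 p p') (ac.2.2 r r')⟩
  map_one' := Subtype.ext (LinearEquiv.ext fun v =>
    (Submodule.prodEquivOfIsCompl _ _ (isCompl_orth hA.isRefl hB hP)).apply_symm_apply v)
  map_mul' ac bd := Subtype.ext (LinearEquiv.ext fun v => by
    obtain ⟨x, rfl⟩ := (Submodule.prodEquivOfIsCompl _ _ (isCompl_orth hA.isRefl hB hP)).surjective v
    simp only [Subgroup.coe_mul, LinearEquiv.mul_apply, LinearEquiv.trans_apply, LinearEquiv.symm_apply_apply]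
    rfl)

theorem sumHom_apply (ac : Isom (B.restrict P) × Isom (B.restrict (B.orthogonal P))) (p : P)
    (r : B.orthogonal P) :
    (sumHom hA hB hP ac).1 ((p : V) + r) = (ac.1.1 p : V) + ac.2.1 r := by
  set E := Submodule.prodEquivOfIsCompl _ _ (isCompl_orth hA.isRefl hB hP)
  show E ((ac.1.1.prodCongr ac.2.1) (E.symm ((p : V) + r))) = _
  rw [show (p : V) + r = E (p, r) from (Submodule.coe_prodEquivOfIsCompl' _ _ _ (p, r)).symm,
    E.symm_apply_apply]
  exact Submodule.coe_prodEquivOfIsCompl' _ _ _ _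

/-- Restriction to an invariant subspace. -/
noncomputable def resI (g : Isom B) (P : Submodule F V) (hg : ∀ x ∈ P, g.1 x ∈ P) :
    Isom (B.restrict P) :=
  ⟨g.1.ofSubmodules P P (Submodule.eq_of_le_of_finrank_eq (by rintro _ ⟨x, hx, rfl⟩; exact hg x hx)
    (LinearEquiv.finrank_map_eq g.1 P)), fun _ _ => g.2 _ _⟩

theorem resI_apply (g : Isom B) (P : Submodule F V) (hg : ∀ x ∈ P, g.1 x ∈ P) (x : P) :
    ((resI g P hg).1 x : V) = g.1 x := rfl

include hA in
theorem orth_invariant (g : Isom B) (hg : ∀ x ∈ P, g.1 x ∈ P) :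
    ∀ x ∈ B.orthogonal P, g.1 x ∈ B.orthogonal P := by
  intro x hx y hy
  have hmap : P.map (g.1 : V →ₗ[F] V) = P :=
    Submodule.eq_of_le_of_finrank_eq (by rintro _ ⟨z, hz, rfl⟩; exact hg z hz)
      (LinearEquiv.finrank_map_eq g.1 P)
  obtain ⟨z, hz, rfl⟩ := hmap.symm.le hy
  show B (g.1 z) (g.1 x) = 0
  rw [g.2]
  exact hx z hz

theorem eq_sumHom (g : Isom B) (hg : ∀ x ∈ P, g.1 x ∈ P) :
    g = sumHom hA hB hP (resI g P hg, resI g _ (orth_invariant hA g hg)) := by
  refine Subtype.ext (LinearEquiv.ext fun v => ?_)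
  obtain ⟨⟨p, r⟩, rfl⟩ := (Submodule.prodEquivOfIsCompl _ _ (isCompl_orth hA.isRefl hB hP)).surjective v
  rw [Submodule.coe_prodEquivOfIsCompl', sumHom_apply, map_add]
  rfl

include hA hB hP in
theorem isCom_of_parts (g : Isom B) (hg : ∀ x ∈ P, g.1 x ∈ P) (h1 : IsCom (resI g P hg))
    (h2 : IsCom (resI g _ (orth_invariant hA g hg))) : IsCom g := by
  rw [eq_sumHom hA hB hP g hg]
  exact (h1.prod h2).map _

include hA hB hP in
theorem good_of_parts (g : Isom B) (hg : ∀ x ∈ P, g.1 x ∈ P) (h1 : GoodI (resI g P hg))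
    (h2 : GoodI (resI g _ (orth_invariant hA g hg))) : GoodI g := by
  obtain ⟨E₁, d1, i1, n1, f1⟩ := h1
  obtain ⟨E₂, d2, i2, n2, f2⟩ := h2
  have hc := isCompl_orth hA.isRefl hB hP
  refine ⟨E₁.map P.subtype ⊔ E₂.map (B.orthogonal P).subtype, ?_, ?_, ?_, ?_⟩
  · have h0 : E₁.map P.subtype ⊓ E₂.map (B.orthogonal P).subtype = ⊥ := by
      refine le_bot_iff.1 (le_trans (inf_le_inf (Submodule.map_subtype_le _ _) (Submodule.map_subtype_le _ _)) ?_)
      rw [hc.inf_eq_bot]
    have := Submodule.finrank_sup_add_finrank_inf_eq (E₁.map P.subtype) (E₂.map (B.orthogonal P).subtype)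
    rw [h0, finrank_bot, Submodule.finrank_map_subtype_eq, Submodule.finrank_map_subtype_eq] at this
    have := Submodule.finrank_add_eq_of_isCompl hc
    omega
  all_goals
    intro x hx
    obtain ⟨_, ⟨p, hp, rfl⟩, _, ⟨r, hr, rfl⟩, rfl⟩ := Submodule.mem_sup.1 hx
  · intro y hy
    obtain ⟨_, ⟨p', hp', rfl⟩, _, ⟨r', hr', rfl⟩, rfl⟩ := Submodule.mem_sup.1 hy
    simp only [Submodule.subtype_apply]
    rw [split_apply hA.isRefl, show B (p : V) p' = 0 from i1 p hp p' hp',
      show B (r : V) r' = 0 from i2 r hr r' hr', add_zero]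
  · intro y hy
    obtain ⟨_, ⟨p', hp', rfl⟩, _, ⟨r', hr', rfl⟩, rfl⟩ := Submodule.mem_sup.1 hy
    simp only [Submodule.subtype_apply, map_add]
    rw [← resI_apply g P hg p, ← resI_apply g P hg p',
      ← resI_apply g _ (orth_invariant hA g hg) r, ← resI_apply g _ (orth_invariant hA g hg) r']
    rw [add_sub_add_comm, add_sub_add_comm, ← Submodule.coe_sub, ← Submodule.coe_sub,
      ← Submodule.coe_sub, ← Submodule.coe_sub, split_apply hA.isRefl]
    exact (congrArg₂ (· + ·) (n1 p hp p' hp') (n2 r hr r' hr')).trans (add_zero 0)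
  · intro hx'
    obtain ⟨_, ⟨p', hp', rfl⟩, _, ⟨r', hr', rfl⟩, he⟩ := Submodule.mem_sup.1 hx'
    simp only [Submodule.subtype_apply, map_add] at he ⊢
    have huniq : (p', r') = ((resI g P hg).1 p, (resI g _ (orth_invariant hA g hg)).1 r) := by
      apply (Submodule.prodEquivOfIsCompl _ _ hc).injective
      rw [Submodule.coe_prodEquivOfIsCompl', Submodule.coe_prodEquivOfIsCompl']
      exact he
    rw [Prod.mk.injEq] at huniq
    rw [← resI_apply g P hg p, ← resI_apply g _ (orth_invariant hA g hg) r,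
      f1 p hp (huniq.1 ▸ hp'), f2 r hr (huniq.2 ▸ hr')]

end Sum

end Cfsg.Agent.H69.OreSp
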