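import Mathlib.Data.ZMod.Basic
import Mathlib.LinearAlgebra.Matrix.Notation
import Mathlib.Tactic.FinCases

/-!
Commutator witnesses in `Sp₄(3)` for `-1 ⊕ t`, coordinates `(e₁, e₂, f₁, f₂)`.
-/

set_option autoImplicit false

namespace Cfsg.Agent.H69.OreSp

open Matrix

/-- The form. -/
def j43 : Matrix (Fin 4) (Fin 4) (ZMod 3) := !![0, 0, -1, 0; 0, 0, 0, -1; 1, 0, 0, 0; 0, 1, 0, 0]

/-- `-1 ⊕ t`. -/
def t43 (p q r s : ZMod 3) : Matrix (Fin 4) (Fin 4) (ZMod 3) :=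
  !![-1, 0, 0, 0; 0, p, 0, q; 0, 0, -1, 0; 0, r, 0, s]

/-- Certificate. -/
def Wit43 (p q r s : ZMod 3) : Prop :=
  ∃ a b : Matrix (Fin 4) (Fin 4) (ZMod 3), aᵀ * j43 * a = j43 ∧ bᵀ * j43 * b = j43 ∧
    t43 p q r s * b * a = a * b

theorem wit43_0120 : Wit43 0 1 2 0 :=
  ⟨!![1, 1, 0, 2; 1, 1, 1, 1; 0, 2, 2, 0; 1, 2, 0, 1],
    !![0, 1, 1, 0; 0, 2, 1, 0; 1, 1, 0, 2; 1, 0, 2, 1], by decide +kernel, by decide +kernel, by decide +kernel⟩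

theorem wit43_0121 : Wit43 0 1 2 1 :=
  ⟨!![0, 2, 1, 2; 2, 2, 1, 0; 2, 1, 0, 1; 2, 1, 1, 2],
    !![0, 1, 1, 1; 0, 2, 1, 2; 1, 0, 2, 2; 1, 2, 0, 0], by decide +kernel, by decide +kernel, by decide +kernel⟩

theorem wit43_0122 : Wit43 0 1 2 2 :=
  ⟨!![2, 1, 2, 2; 1, 2, 2, 2; 2, 0, 1, 0; 1, 1, 2, 0],
    !![2, 1, 1, 0; 0, 1, 1, 1; 0, 1, 0, 1; 2, 0, 1, 0], by decide +kernel, by decide +kernel, by decide +kernel⟩

theorem wit43_0210 : Wit43 0 2 1 0 :=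
  ⟨!![1, 0, 0, 0; 2, 2, 0, 1; 0, 2, 1, 0; 1, 0, 0, 2],
    !![2, 0, 0, 2; 2, 1, 1, 0; 2, 0, 2, 1; 1, 2, 2, 1], by decide +kernel, by decide +kernel, by decide +kernel⟩

theorem wit43_0211 : Wit43 0 2 1 1 :=
  ⟨!![1, 2, 2, 1; 2, 0, 0, 2; 1, 1, 1, 0; 0, 2, 1, 2],
    !![1, 0, 2, 0; 0, 1, 0, 2; 2, 1, 2, 2; 1, 1, 2, 0], by decide +kernel, by decide +kernel, by decide +kernel⟩

theorem wit43_0212 : Wit43 0 2 1 2 :=
  ⟨!![1, 1, 1, 1; 1, 2, 2, 1; 1, 0, 2, 0; 2, 2, 1, 0],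
    !![0, 1, 1, 1; 0, 2, 1, 2; 1, 0, 2, 2; 1, 2, 0, 0], by decide +kernel, by decide +kernel, by decide +kernel⟩

theorem wit43_1011 : Wit43 1 0 1 1 :=
  ⟨!![1, 1, 2, 0; 1, 2, 1, 1; 0, 2, 0, 1; 0, 1, 1, 2],
    !![0, 1, 1, 0; 0, 2, 1, 0; 1, 1, 0, 2; 1, 0, 2, 1], by decide +kernel, by decide +kernel, by decide +kernel⟩

theorem wit43_1021 : Wit43 1 0 2 1 :=
  ⟨!![1, 1, 2, 1; 0, 2, 1, 1; 0, 0, 1, 0; 0, 0, 1, 2],
    !![0, 2, 2, 0; 2, 1, 1, 2; 0, 0, 2, 2; 1, 2, 1, 1], by decide +kernel, by decide +kernel, by decide +kernel⟩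

theorem wit43_1101 : Wit43 1 1 0 1 :=
  ⟨!![2, 0, 2, 1; 2, 1, 1, 2; 2, 0, 1, 0; 0, 0, 0, 1],
    !![2, 2, 2, 0; 1, 2, 1, 0; 2, 1, 0, 1; 1, 1, 0, 1], by decide +kernel, by decide +kernel, by decide +kernel⟩

theorem wit43_1112 : Wit43 1 1 1 2 :=
  ⟨!![1, 2, 0, 1; 2, 2, 0, 1; 1, 0, 2, 1; 0, 1, 1, 0],
    !![2, 1, 1, 0; 0, 1, 1, 1; 0, 1, 0, 1; 2, 0, 1, 0], by decide +kernel, by decide +kernel, by decide +kernel⟩

theorem wit43_1120 : Wit43 1 1 2 0 :=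
  ⟨!![1, 0, 0, 2; 0, 0, 0, 2; 2, 0, 1, 2; 2, 1, 2, 2],
    !![1, 2, 1, 2; 0, 1, 2, 0; 1, 1, 0, 2; 2, 1, 0, 2], by decide +kernel, by decide +kernel, by decide +kernel⟩

theorem wit43_1201 : Wit43 1 2 0 1 :=
  ⟨!![0, 0, 1, 1; 2, 1, 1, 1; 2, 0, 0, 2; 0, 0, 0, 1],
    !![0, 1, 1, 1; 0, 2, 1, 2; 1, 0, 2, 2; 1, 2, 0, 0], by decide +kernel, by decide +kernel, by decide +kernel⟩

theorem wit43_1210 : Wit43 1 2 1 0 :=
  ⟨!![2, 0, 1, 2; 1, 1, 0, 1; 1, 0, 1, 2; 2, 2, 0, 0],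
    !![0, 2, 1, 0; 2, 1, 0, 1; 0, 0, 2, 2; 0, 0, 2, 0], by decide +kernel, by decide +kernel, by decide +kernel⟩

theorem wit43_1222 : Wit43 1 2 2 2 :=
  ⟨!![0, 0, 2, 0; 0, 0, 0, 2; 1, 0, 0, 0; 0, 1, 0, 0],
    !![2, 1, 0, 0; 0, 0, 2, 2; 0, 0, 1, 2; 2, 2, 1, 1], by decide +kernel, by decide +kernel, by decide +kernel⟩

theorem wit43_2012 : Wit43 2 0 1 2 :=
  ⟨!![0, 2, 1, 2; 1, 2, 1, 1; 1, 1, 1, 2; 2, 0, 1, 1],
    !![1, 0, 2, 0; 0, 1, 0, 2; 2, 1, 2, 2; 1, 1, 2, 0], by decide +kernel, by decide +kernel, by decide +kernel⟩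

theorem wit43_2022 : Wit43 2 0 2 2 :=
  ⟨!![2, 1, 1, 1; 0, 1, 1, 2; 2, 0, 2, 2; 1, 0, 1, 2],
    !![0, 1, 1, 2; 2, 0, 0, 2; 2, 2, 2, 1; 1, 1, 0, 0], by decide +kernel, by decide +kernel, by decide +kernel⟩

theorem wit43_2102 : Wit43 2 1 0 2 :=
  ⟨!![1, 0, 1, 2; 0, 0, 0, 2; 1, 0, 2, 0; 2, 1, 1, 1],
    !![0, 1, 1, 1; 0, 2, 1, 2; 1, 0, 2, 2; 1, 2, 0, 0], by decide +kernel, by decide +kernel, by decide +kernel⟩

theorem wit43_2111 : Wit43 2 1 1 1 :=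
  ⟨!![0, 2, 0, 0; 1, 0, 2, 0; 0, 2, 0, 2; 0, 0, 1, 0],
    !![2, 2, 2, 2; 2, 2, 0, 1; 0, 2, 0, 1; 0, 1, 2, 2], by decide +kernel, by decide +kernel, by decide +kernel⟩

theorem wit43_2120 : Wit43 2 1 2 0 :=
  ⟨!![1, 1, 1, 1; 2, 2, 0, 1; 1, 2, 2, 2; 1, 2, 0, 0],
    !![1, 1, 2, 1; 1, 2, 0, 1; 2, 1, 2, 1; 2, 2, 0, 0], by decide +kernel, by decide +kernel, by decide +kernel⟩

theorem wit43_2202 : Wit43 2 2 0 2 :=
  ⟨!![2, 2, 1, 2; 2, 2, 0, 0; 1, 2, 1, 2; 0, 2, 0, 2],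
    !![0, 2, 1, 0; 2, 1, 0, 1; 0, 0, 2, 2; 0, 0, 2, 0], by decide +kernel, by decide +kernel, by decide +kernel⟩

theorem wit43_2210 : Wit43 2 2 1 0 :=
  ⟨!![1, 2, 2, 2; 2, 0, 2, 1; 1, 0, 1, 1; 1, 1, 2, 1],
    !![0, 1, 1, 2; 2, 0, 0, 2; 2, 2, 2, 1; 1, 1, 0, 0], by decide +kernel, by decide +kernel, by decide +kernel⟩

theorem wit43_2221 : Wit43 2 2 2 1 :=
  ⟨!![1, 1, 0, 1; 2, 0, 1, 2; 0, 2, 2, 1; 1, 2, 0, 2],
    !![2, 0, 0, 2; 2, 1, 1, 0; 2, 0, 2, 1; 1, 2, 2, 1], by decide +kernel, by decide +kernel, by decide +kernel⟩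

theorem forall_z3 {P : ZMod 3 → Prop} (h0 : P 0) (h1 : P 1) (h2 : P 2) (x : ZMod 3) : P x := by
  fin_cases x <;> assumption

theorem wit43 : ∀ p q r s : ZMod 3, p * s - q * r = 1 → ¬(q = 0 ∧ r = 0 ∧ p = s) → Wit43 p q r s := by
  refine forall_z3 (forall_z3 (forall_z3 (forall_z3 ?_ ?_ ?_) (forall_z3 ?_ ?_ ?_) (forall_z3 ?_ ?_ ?_))
    (forall_z3 (forall_z3 ?_ ?_ ?_) (forall_z3 ?_ ?_ ?_) (forall_z3 ?_ ?_ ?_))
    (forall_z3 (forall_z3 ?_ ?_ ?_) (forall_z3 ?_ ?_ ?_) (forall_z3 ?_ ?_ ?_)))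
    (forall_z3 (forall_z3 (forall_z3 ?_ ?_ ?_) (forall_z3 ?_ ?_ ?_) (forall_z3 ?_ ?_ ?_))
    (forall_z3 (forall_z3 ?_ ?_ ?_) (forall_z3 ?_ ?_ ?_) (forall_z3 ?_ ?_ ?_))
    (forall_z3 (forall_z3 ?_ ?_ ?_) (forall_z3 ?_ ?_ ?_) (forall_z3 ?_ ?_ ?_)))
    (forall_z3 (forall_z3 (forall_z3 ?_ ?_ ?_) (forall_z3 ?_ ?_ ?_) (forall_z3 ?_ ?_ ?_))
    (forall_z3 (forall_z3 ?_ ?_ ?_) (forall_z3 ?_ ?_ ?_) (forall_z3 ?_ ?_ ?_))
    (forall_z3 (forall_z3 ?_ ?_ ?_) (forall_z3 ?_ ?_ ?_) (forall_z3 ?_ ?_ ?_)))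
  · exact fun h1 _ => absurd h1 (by decide)
  · exact fun h1 _ => absurd h1 (by decide)
  · exact fun h1 _ => absurd h1 (by decide)
  · exact fun h1 _ => absurd h1 (by decide)
  · exact fun h1 _ => absurd h1 (by decide)
  · exact fun h1 _ => absurd h1 (by decide)
  · exact fun h1 _ => absurd h1 (by decide)
  · exact fun h1 _ => absurd h1 (by decide)
  · exact fun h1 _ => absurd h1 (by decide)
  · exact fun h1 _ => absurd h1 (by decide)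
  · exact fun h1 _ => absurd h1 (by decide)
  · exact fun h1 _ => absurd h1 (by decide)
  · exact fun h1 _ => absurd h1 (by decide)
  · exact fun h1 _ => absurd h1 (by decide)
  · exact fun h1 _ => absurd h1 (by decide)
  · exact fun _ _ => wit43_0120
  · exact fun _ _ => wit43_0121
  · exact fun _ _ => wit43_0122
  · exact fun h1 _ => absurd h1 (by decide)
  · exact fun h1 _ => absurd h1 (by decide)
  · exact fun h1 _ => absurd h1 (by decide)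
  · exact fun _ _ => wit43_0210
  · exact fun _ _ => wit43_0211
  · exact fun _ _ => wit43_0212
  · exact fun h1 _ => absurd h1 (by decide)
  · exact fun h1 _ => absurd h1 (by decide)
  · exact fun h1 _ => absurd h1 (by decide)
  · exact fun h1 _ => absurd h1 (by decide)
  · exact fun _ h2 => (h2 ⟨rfl, rfl, rfl⟩).elim
  · exact fun h1 _ => absurd h1 (by decide)
  · exact fun h1 _ => absurd h1 (by decide)
  · exact fun _ _ => wit43_1011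
  · exact fun h1 _ => absurd h1 (by decide)
  · exact fun h1 _ => absurd h1 (by decide)
  · exact fun _ _ => wit43_1021
  · exact fun h1 _ => absurd h1 (by decide)
  · exact fun h1 _ => absurd h1 (by decide)
  · exact fun _ _ => wit43_1101
  · exact fun h1 _ => absurd h1 (by decide)
  · exact fun h1 _ => absurd h1 (by decide)
  · exact fun h1 _ => absurd h1 (by decide)
  · exact fun _ _ => wit43_1112
  · exact fun _ _ => wit43_1120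
  · exact fun h1 _ => absurd h1 (by decide)
  · exact fun h1 _ => absurd h1 (by decide)
  · exact fun h1 _ => absurd h1 (by decide)
  · exact fun _ _ => wit43_1201
  · exact fun h1 _ => absurd h1 (by decide)
  · exact fun _ _ => wit43_1210
  · exact fun h1 _ => absurd h1 (by decide)
  · exact fun h1 _ => absurd h1 (by decide)
  · exact fun h1 _ => absurd h1 (by decide)
  · exact fun h1 _ => absurd h1 (by decide)
  · exact fun _ _ => wit43_1222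
  · exact fun h1 _ => absurd h1 (by decide)
  · exact fun h1 _ => absurd h1 (by decide)
  · exact fun _ h2 => (h2 ⟨rfl, rfl, rfl⟩).elim
  · exact fun h1 _ => absurd h1 (by decide)
  · exact fun h1 _ => absurd h1 (by decide)
  · exact fun _ _ => wit43_2012
  · exact fun h1 _ => absurd h1 (by decide)
  · exact fun h1 _ => absurd h1 (by decide)
  · exact fun _ _ => wit43_2022
  · exact fun h1 _ => absurd h1 (by decide)
  · exact fun h1 _ => absurd h1 (by decide)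
  · exact fun _ _ => wit43_2102
  · exact fun h1 _ => absurd h1 (by decide)
  · exact fun _ _ => wit43_2111
  · exact fun h1 _ => absurd h1 (by decide)
  · exact fun _ _ => wit43_2120
  · exact fun h1 _ => absurd h1 (by decide)
  · exact fun h1 _ => absurd h1 (by decide)
  · exact fun h1 _ => absurd h1 (by decide)
  · exact fun h1 _ => absurd h1 (by decide)
  · exact fun _ _ => wit43_2202
  · exact fun _ _ => wit43_2210
  · exact fun h1 _ => absurd h1 (by decide)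
  · exact fun h1 _ => absurd h1 (by decide)
  · exact fun h1 _ => absurd h1 (by decide)
  · exact fun _ _ => wit43_2221
  · exact fun h1 _ => absurd h1 (by decide)

end Cfsg.Agent.H69.OreSp
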