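import Cfsg.Agent.H69.OreSp.UnipBad
import Cfsg.Agent.H69.OreSp.Sp43

/-!
Planes, and the space of dimension four over the field with three elements.
-/

set_option autoImplicit false
set_option linter.unusedSectionVars false

namespace Cfsg.Agent.H69.OreSp

open Cfsg.Agent.Symplectic Module
open LinearMap (BilinForm)
open scoped Matrix

variable {F V : Type*} [Field F] [AddCommGroup V] [Module F V] [FiniteDimensional F V]
  {B : BilinForm F V}

theorem j43_sq : j43 * j43 = -1 := by decide +kernel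

theorem exists_pair (hA : B.IsAlt) (hB : B.Nondegenerate) (h : 0 < finrank F V) :
    ∃ e f, B e f = -1 := by
  have := Module.nontrivial_of_finrank_pos (R := F) h
  obtain ⟨e, he⟩ := exists_ne (0 : V)
  obtain ⟨f, hf⟩ : ∃ f, B e f ≠ 0 := by
    by_contra hcon
    push Not at hcon
    exact he (hB.1 e hcon)
  exact ⟨e, (-(B e f)⁻¹) • f, by rw [map_smul, smul_eq_mul, neg_mul, inv_mul_cancel₀ hf]⟩

theorem plane_span (hA : B.IsAlt) (hd : finrank F V = 2) {e f : V} (hef : B e f = -1) :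
    ∀ x, x = (-(B x f)) • e + (B x e) • f := by
  have hfe : B f e = 1 := by rw [alt_swap hA, hef, neg_neg]
  have hli : LinearIndependent F ![e, f] := by
    rw [LinearIndependent.pair_iff]
    intro s t hst
    have h1 := congrArg (fun z => B z f) hst
    have h2 := congrArg (fun z => B z e) hst
    simp [hef, hfe, alt_self hA] at h1 h2
    exact ⟨h1, h2⟩
  intro x
  have hspan := hli.span_eq_top_of_card_eq_finrank (by simp [hd])
  obtain ⟨s, t, hst⟩ : ∃ s t : F, s • e + t • f = x := by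
    have hx : x ∈ Submodule.span F (Set.range ![e, f]) := by rw [hspan]; trivial
    rw [Matrix.range_cons_cons_empty, Submodule.mem_span_pair] at hx
    exact hx
  subst hst
  simp [hef, hfe, alt_self hA]

theorem plane_good_or_scalar (hA : B.IsAlt) (hB : B.Nondegenerate) (hd : finrank F V = 2) (h : Isom B) :
    GoodI h ∨ (∀ x, h.1 x = x) ∨ ∀ x, h.1 x = -x := by
  by_cases hc : ∃ x, ∀ c : F, h.1 x ≠ c • x
  · obtain ⟨x, hx⟩ := hc
    have hx0 : x ≠ 0 := fun h0 => hx 0 (by simp [h0])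
    refine Or.inl ⟨Submodule.span F {x}, by rw [finrank_span_singleton hx0, hd], ?_, ?_, ?_⟩
    all_goals
      intro y hy
      obtain ⟨a, rfl⟩ := Submodule.mem_span_singleton.1 hy
    · intro z hz
      obtain ⟨b, rfl⟩ := Submodule.mem_span_singleton.1 hz
      simp [alt_self hA]
    · intro z hz
      obtain ⟨b, rfl⟩ := Submodule.mem_span_singleton.1 hz
      rw [map_smul, map_smul, ← smul_sub, ← smul_sub, map_smul, map_smul, LinearMap.smul_apply,
        alt_self hA, smul_zero, smul_zero]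
    · intro hmem
      obtain ⟨b, hb⟩ := Submodule.mem_span_singleton.1 hmem
      rcases eq_or_ne a 0 with rfl | ha
      · simp
      exfalso
      refine hx (a⁻¹ * b) ?_
      rw [← smul_smul, hb, map_smul, smul_smul, inv_mul_cancel₀ ha, one_smul]
  push Not at hc
  obtain ⟨e, f, hef⟩ := exists_pair hA hB (by omega)
  obtain ⟨a, ha⟩ := hc e
  obtain ⟨b, hb⟩ := hc f
  obtain ⟨c, hc'⟩ := hc (e + f)
  rw [map_add, ha, hb, smul_add] at hc'
  have hfe : B f e = 1 := by rw [alt_swap hA, hef, neg_neg]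
  have e1 := congrArg (fun z => B z f) hc'
  have e2 := congrArg (fun z => B z e) hc'
  simp [hef, hfe, alt_self hA] at e1 e2
  have hab : a = b := by rw [e1, e2]
  subst hab
  have hall : ∀ x, h.1 x = a • x := by
    intro x
    conv_rhs => rw [plane_span hA hd hef x]
    conv_lhs => rw [plane_span hA hd hef x]
    rw [map_add, map_smul, map_smul, ha, hb, smul_add, smul_comm a, smul_comm a (B x e)]
  have := h.2 e f
  rw [ha, hb, map_smul, map_smul, LinearMap.smul_apply, hef, smul_smul, smul_eq_mul] at this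
  rcases mul_self_eq_one_iff.1 (show a * a = 1 by linear_combination -this) with rfl | rfl
  · exact Or.inr (Or.inl fun x => by rw [hall, one_smul])
  · exact Or.inr (Or.inr fun x => by rw [hall, neg_smul, one_smul])

theorem isCom_neg_plane [Fintype F] (hA : B.IsAlt) (hB : B.Nondegenerate) (hd : finrank F V = 2)
    (h2 : (-1 : F) ≠ 1) (g : Isom B) (hg : ∀ x, g.1 x = -x) : IsCom g := by
  have : g = negI 1 := Subtype.ext (LinearEquiv.ext fun x => hg x)
  rw [this]
  obtain ⟨e, f, hef⟩ := exists_pair hA hB (by omega)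
  have hN : ((1 : Isom B).1.toLinearMap - 1 : Module.End F V) ^ 1 = 0 := by
    rw [pow_one, sub_eq_zero]; rfl
  refine isCom_neg_unip hA 1 hN hB (fun h0 => h2 (by linear_combination -h0)) le_rfl odd_one
    (by omega) e f ?_
  rw [Nat.sub_self, pow_zero, map_one, Module.End.one_apply, hef]
  simp

/-- `-1 ⊕ t` in `Sp₄(3)`. -/
theorem isCom_four [Fintype F] (hq : Fintype.card F = 3) (hA : B.IsAlt) (hB : B.Nondegenerate)
    (g : Isom B) {U : Submodule F V} (hU : (B.restrict U).Nondegenerate)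
    (hUd : finrank F U = 2) (hUg : ∀ x ∈ U, g.1 x = -x)
    (hWd : finrank F (B.orthogonal U) = 2) (hWg : ∀ x ∈ B.orthogonal U, g.1 x ∈ B.orthogonal U)
    (hns : ¬∃ c : F, ∀ x ∈ B.orthogonal U, g.1 x = c • x) : IsCom g := by
  have hcard : Nat.card F = 3 := by rw [Nat.card_eq_fintype_card, hq]
  have : Fact (Nat.Prime 3) := ⟨by norm_num⟩
  have : CharP F 3 := charP_of_card_eq_prime hq
  let σ : ZMod 3 →+* F := ZMod.castHom dvd_rfl F
  have hσ : Function.Bijective σ := (Fintype.bijective_iff_injective_and_card σ).2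
    ⟨σ.injective, by rw [ZMod.card, hq]⟩
  have hAU : (B.restrict U).IsAlt := fun x => hA x
  have hAW : (B.restrict (B.orthogonal U)).IsAlt := fun x => hA x
  have hW := restrict_orth_nondeg hA.isRefl hB hU
  obtain ⟨u₁, u₂, hu⟩ := exists_pair hAU hU (by omega)
  obtain ⟨w₁, w₂, hw⟩ := exists_pair hAW hW (by omega)
  replace hu : B (u₁ : V) u₂ = -1 := hu
  replace hw : B (w₁ : V) w₂ = -1 := hw
  let a : Fin 4 → V := ![(u₁ : V), (w₁ : V), (u₂ : V), (w₂ : V)]
  have o1 : ∀ (x : U) (y : B.orthogonal U), B (x : V) y = 0 := fun x y => y.2 _ x.2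
  have o2 : ∀ (x : U) (y : B.orthogonal U), B (y : V) x = 0 := fun x y => by
    rw [alt_swap hA, o1, neg_zero]
  have hgram : ∀ i j, B (a i) (a j) = (j43.map σ) i j := by
    intro i j
    fin_cases i <;> fin_cases j <;>
      simp [a, j43, o1, o2, hu, hw, alt_self hA, alt_swap hA (u₂ : V) u₁, alt_swap hA (w₂ : V) w₁]
  let T₀ : (Fin 4 → F) →ₗ[F] V := Fintype.linearCombination F a
  have hT : ∀ x y, B (T₀ x) (T₀ y) = x ⬝ᵥ (j43.map σ) *ᵥ y := by
    intro x y
    simp only [T₀, Fintype.linearCombination_apply, map_sum, map_smul, LinearMap.sum_apply,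
      LinearMap.smul_apply, smul_eq_mul, hgram, Matrix.mulVec, dotProduct, Finset.mul_sum]
    rw [Finset.sum_comm]
    exact Finset.sum_congr rfl fun i _ => Finset.sum_congr rfl fun j _ => by ring
  have hJJ : (j43.map σ) * (j43.map σ) = -1 := by
    rw [← Matrix.map_mul, j43_sq]
    ext i j
    simp [Matrix.one_apply, apply_ite σ]
  have hinj : Function.Injective T₀ := by
    rw [← LinearMap.ker_eq_bot, LinearMap.ker_eq_bot']
    intro x hx
    have hz : ∀ y, x ⬝ᵥ (j43.map σ) *ᵥ y = 0 := fun y => by rw [← hT, hx, map_zero, LinearMap.zero_apply]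
    funext i
    have := hz ((j43.map σ) *ᵥ Pi.single i 1)
    rw [Matrix.mulVec_mulVec, hJJ, Matrix.neg_mulVec, Matrix.one_mulVec, dotProduct_neg,
      dotProduct_single_one, neg_eq_zero] at this
    exact this
  have hdim : finrank F (Fin 4 → F) = finrank F V := by
    rw [finrank_fin_fun, ← Submodule.finrank_add_eq_of_isCompl (isCompl_orth hA.isRefl hB hU), hUd, hWd]
  let T : (Fin 4 → F) ≃ₗ[F] V := LinearEquiv.ofBijective T₀
    ⟨hinj, (LinearMap.injective_iff_surjective_of_finrank_eq_finrank hdim).1 hinj⟩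
  have hTa : ∀ i, T (Pi.single i 1) = a i := fun i => by
    show T₀ _ = _
    simp [T₀]
  -- the matrix of `g`
  have g1 : g.1 (w₁ : V) = (-(B (g.1 w₁) w₂)) • (w₁ : V) + (B (g.1 w₁) w₁) • (w₂ : V) :=
    congrArg Subtype.val (plane_span hAW hWd (e := w₁) (f := w₂) hw ⟨_, hWg _ w₁.2⟩)
  have g2 : g.1 (w₂ : V) = (-(B (g.1 w₂) w₂)) • (w₁ : V) + (B (g.1 w₂) w₁) • (w₂ : V) :=
    congrArg Subtype.val (plane_span hAW hWd (e := w₁) (f := w₂) hw ⟨_, hWg _ w₂.2⟩)
  obtain ⟨p, hp⟩ := hσ.2 (-(B (g.1 w₁) w₂))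
  obtain ⟨r, hr⟩ := hσ.2 (B (g.1 w₁) w₁)
  obtain ⟨q, hq'⟩ := hσ.2 (-(B (g.1 w₂) w₂))
  obtain ⟨s, hs⟩ := hσ.2 (B (g.1 w₂) w₁)
  rw [← hp, ← hr] at g1
  rw [← hq', ← hs] at g2
  have hw' : B (w₂ : V) w₁ = 1 := by rw [alt_swap hA, hw, neg_neg]
  have hdet : p * s - q * r = 1 := by
    apply hσ.1
    have := g.2 (w₁ : V) w₂
    rw [g1, g2] at this
    simp [hw, hw', alt_self hA] at this
    simp only [map_sub, map_mul, map_one]
    linear_combination -this
  have hne : ¬(q = 0 ∧ r = 0 ∧ p = s) := by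
    rintro ⟨rfl, rfl, rfl⟩
    refine hns ⟨σ p, fun x hx => ?_⟩
    have hx' := congrArg Subtype.val (plane_span hAW hWd (e := w₁) (f := w₂) hw ⟨x, hx⟩)
    simp only [Submodule.coe_add, Submodule.coe_smul] at hx'
    conv_rhs => rw [hx']
    conv_lhs => rw [hx']
    rw [map_add, map_smul, map_smul, g1, g2, map_zero, zero_smul, zero_smul, add_zero, zero_add,
      smul_add, smul_smul, smul_smul, smul_smul, smul_smul]
    congr 2 <;> ring
  obtain ⟨A, C, hA', hC', hAC⟩ := wit43 p q r s hdet hne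
  have mk : ∀ M : Matrix (Fin 4) (Fin 4) (ZMod 3), Mᵀ * j43 * M = j43 →
      ∃ P : Isom B, ∀ x, P.1 (T x) = T ((M.map σ) *ᵥ x) := by
    intro M hM
    let f : V →ₗ[F] V := T.toLinearMap.comp ((Matrix.mulVecLin (M.map σ)).comp T.symm.toLinearMap)
    have hfT : ∀ x, f (T x) = T ((M.map σ) *ᵥ x) := fun x => by
      simp only [f, LinearMap.comp_apply, LinearEquiv.coe_coe, LinearEquiv.symm_apply_apply,
        Matrix.mulVecLin_apply]
    have hf : ∀ x y, B (f x) (f y) = B x y := by
      intro x y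
      obtain ⟨x, rfl⟩ := T.surjective x
      obtain ⟨y, rfl⟩ := T.surjective y
      rw [hfT, hfT]
      show B (T₀ _) (T₀ _) = B (T₀ _) (T₀ _)
      rw [hT, hT, ← Matrix.vecMul_transpose, ← Matrix.dotProduct_mulVec, Matrix.mulVec_mulVec,
        Matrix.mulVec_mulVec, ← Matrix.transpose_map, ← Matrix.map_mul, ← Matrix.map_mul, hM]
    have hfi : Function.Injective f := by
      intro x y hxy
      refine sub_eq_zero.1 (hB.1 _ fun w => ?_)
      rw [map_sub, LinearMap.sub_apply, ← hf x w, ← hf y w, hxy, sub_self]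
    exact ⟨⟨LinearEquiv.ofBijective f ⟨hfi, LinearMap.injective_iff_surjective.1 hfi⟩, hf⟩, hfT⟩
  obtain ⟨P, hP⟩ := mk A hA'
  obtain ⟨Q, hQ⟩ := mk C hC'
  have hgT : ∀ x, g.1 (T x) = T (((t43 p q r s).map σ) *ᵥ x) := by
    have : g.1.toLinearMap.comp T.toLinearMap =
        T.toLinearMap.comp (Matrix.mulVecLin ((t43 p q r s).map σ)) := by
      refine (Pi.basisFun F (Fin 4)).ext fun i => ?_
      simp only [Pi.basisFun_apply, LinearMap.comp_apply, LinearEquiv.coe_coe, Matrix.mulVecLin_apply,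
        hTa, Matrix.mulVec_single_one]
      show _ = T₀ _
      rw [Fintype.linearCombination_apply, Fin.sum_univ_four]
      fin_cases i
      · simp [a, t43, hUg _ u₁.2]
      · simp [a, t43, g1]
      · simp [a, t43, hUg _ u₂.2]
      · simp [a, t43, g2]
    exact fun x => LinearMap.congr_fun this x
  refine ⟨P, Q, ?_⟩
  rw [eq_mul_inv_iff_mul_eq, eq_mul_inv_iff_mul_eq, mul_assoc]
  refine Subtype.ext (LinearEquiv.ext fun z => ?_)
  obtain ⟨x, rfl⟩ := T.surjective z
  show g.1 (Q.1 (P.1 (T x))) = P.1 (Q.1 (T x))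
  rw [hP, hQ, hgT, hQ, hP, Matrix.mulVec_mulVec, Matrix.mulVec_mulVec, Matrix.mulVec_mulVec,
    ← Matrix.map_mul, ← Matrix.map_mul, ← Matrix.map_mul, hAC]

end Cfsg.Agent.H69.OreSp
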