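import Cfsg.Agent.Symplectic.Std

/-!
Commutators in `Sp₂ₘ` from the decomposition `U⁻ · L · U⁺`.
-/

set_option autoImplicit false
set_option linter.unusedSectionVars false

namespace Cfsg.Agent.H69.OreSp

open Cfsg.Agent.Symplectic Matrix

variable {F : Type*} [Field F] {m : ℕ}

/-- Being a commutator. -/
def IsCom {G : Type*} [Group G] (g : G) : Prop := ∃ a b : G, g = a * b * a⁻¹ * b⁻¹

theorem IsCom.map {G H : Type*} [Group G] [Group H] (f : G →* H) {g : G} (h : IsCom g) :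
    IsCom (f g) := by
  obtain ⟨a, b, rfl⟩ := h
  exact ⟨f a, f b, by simp only [map_mul, map_inv]⟩

theorem IsCom.prod {G H : Type*} [Group G] [Group H] {g : G} {h : H} (hg : IsCom g) (hh : IsCom h) :
    IsCom (g, h) := by
  obtain ⟨a, b, rfl⟩ := hg
  obtain ⟨c, d, rfl⟩ := hh
  exact ⟨(a, c), (b, d), rfl⟩

theorem isCom_one {G : Type*} [Group G] : IsCom (1 : G) := ⟨1, 1, by simp⟩

theorem IsCom.conj {G : Type*} [Group G] {g : G} (k : G) (h : IsCom (k * g * k⁻¹)) : IsCom g := by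
  have := h.map (MulAut.conj k⁻¹).toMonoidHom
  simpa [mul_assoc] using this

theorem isCom_mul_of_isConj {G : Type*} [Group G] {x y z : G} (h1 : IsConj x y)
    (h2 : IsConj x⁻¹ z) : IsCom (y * z) := by
  obtain ⟨a, rfl⟩ := isConj_iff.1 h1
  obtain ⟨b, rfl⟩ := isConj_iff.1 h2
  exact ⟨a * x * a⁻¹, b * a⁻¹, by group⟩

/-- `Sp₂ₘ`. -/
abbrev SpM (m : ℕ) (F : Type*) [Field F] := Matrix.symplecticGroup (Fin m) F

/-- `m × m` matrices. -/
abbrev MM (m : ℕ) (F : Type*) := Matrix (Fin m) (Fin m) F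

/-- The Siegel Levi factor. -/
def levi : (MM m F)ˣ →* SpM m F where
  toFun A := ⟨fromBlocks A.1 0 0 (A⁻¹).1ᵀ, SymplecticGroup.fromBlocks_mem_iff.2
    ⟨by simp, by simp, by simp [← transpose_mul]⟩⟩
  map_one' := Subtype.ext (by simp [fromBlocks_one])
  map_mul' A B := Subtype.ext (by simp [fromBlocks_multiply])

/-- Upper unitriangular element. -/
def uup (X : MM m F) (hX : Xᵀ = X) : SpM m F :=
  ⟨fromBlocks 1 X 0 1, SymplecticGroup.fromBlocks_mem_iff.2 ⟨by simp, by simp [hX], by simp⟩⟩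

theorem uup_inv (X : MM m F) (hX : Xᵀ = X) :
    (uup X hX)⁻¹ = uup (-X) (by rw [transpose_neg, hX]) :=
  inv_eq_of_mul_eq_one_right (Subtype.ext (by simp [uup, fromBlocks_multiply, fromBlocks_one]))

/-- Lower unitriangular element. -/
def ulo (S : MM m F) (hS : Sᵀ = S) : SpM m F :=
  ⟨fromBlocks 1 0 S 1, SymplecticGroup.fromBlocks_mem_iff.2 ⟨by simp [hS], by simp, by simp⟩⟩

theorem ulo_inv (S : MM m F) (hS : Sᵀ = S) :
    (ulo S hS)⁻¹ = ulo (-S) (by rw [transpose_neg, hS]) :=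
  inv_eq_of_mul_eq_one_right (Subtype.ext (by simp [ulo, fromBlocks_multiply, fromBlocks_one]))

/-- The twisted action on bilinear forms has no fixed points. -/
def Reg (A : MM m F) : Prop := ∀ S : MM m F, Aᵀ * S * A = S → S = 0

theorem reg_inv {A : (MM m F)ˣ} (h : Reg A.1) : Reg (A⁻¹).1 := by
  intro S he
  refine h S ?_
  conv_lhs => rw [← he]
  simp only [← Matrix.mul_assoc, ← transpose_mul, Units.inv_mul, transpose_one, one_mul]
  rw [Matrix.mul_assoc, Units.inv_mul, mul_one]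

theorem reg_conj {A Q : (MM m F)ˣ} (h : Reg A.1) : Reg (Q * A * Q⁻¹).1 := by
  intro S he
  have h1 := h (Q.1ᵀ * S * Q.1) ?_
  · calc S = ((Q⁻¹).1ᵀ * Q.1ᵀ) * S * (Q.1 * (Q⁻¹).1) := by simp [← transpose_mul]
      _ = (Q⁻¹).1ᵀ * (Q.1ᵀ * S * Q.1) * (Q⁻¹).1 := by simp only [Matrix.mul_assoc]
      _ = 0 := by rw [h1, Matrix.mul_zero, Matrix.zero_mul]
  · conv_rhs => rw [← he]
    simp [transpose_mul, Matrix.mul_assoc]
    simp [← Matrix.mul_assoc, ← transpose_mul]

variable [Fintype F]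

theorem exists_solve {B : MM m F} (h : Reg B) (S : MM m F) :
    ∃ T : MM m F, T - Bᵀ * T * B = S := by
  have hinj : Function.Injective fun T : MM m F => T - Bᵀ * T * B := by
    intro x y hxy
    replace hxy : x - Bᵀ * x * B = y - Bᵀ * y * B := hxy
    refine sub_eq_zero.1 (h _ ?_)
    rw [Matrix.mul_sub, Matrix.sub_mul]
    linear_combination (norm := abel) -hxy
  exact Finite.injective_iff_surjective.1 hinj S

theorem exists_solve_symm {B : MM m F} (h : Reg B) (S : MM m F) (hS : Sᵀ = S) :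
    ∃ T : MM m F, Tᵀ = T ∧ T - Bᵀ * T * B = S := by
  obtain ⟨T, hT⟩ := exists_solve h S
  refine ⟨T, sub_eq_zero.1 (h _ ?_), hT⟩
  have hT' := congrArg transpose hT
  simp only [transpose_sub, transpose_mul, transpose_transpose, hS, ← Matrix.mul_assoc] at hT'
  rw [Matrix.mul_sub, Matrix.sub_mul]
  linear_combination (norm := abel) hT - hT'

theorem reg_transpose {A : MM m F} (h : Reg A) : Reg Aᵀ := by
  intro T he
  rw [transpose_transpose] at he
  refine Matrix.ext_iff_trace_mul_right.2 fun S => ?_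
  obtain ⟨X, rfl⟩ := exists_solve h S
  have e : (T * (Aᵀ * X * A)).trace = (A * T * Aᵀ * X).trace := by
    rw [← Matrix.mul_assoc, ← Matrix.mul_assoc, Matrix.trace_mul_comm (T * Aᵀ * X) A,
      ← Matrix.mul_assoc, ← Matrix.mul_assoc]
  rw [Matrix.mul_sub, Matrix.trace_sub, e, he, Matrix.zero_mul, Matrix.trace_zero, sub_self]

theorem isConj_ulo {A : (MM m F)ˣ} (h : Reg A.1) (S : MM m F) (hS : Sᵀ = S) :
    IsConj (levi A) (ulo S hS * levi A) := by
  obtain ⟨T, hT, e⟩ := exists_solve_symm (reg_inv h) S hS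
  refine isConj_iff.2 ⟨ulo T hT, ?_⟩
  rw [ulo_inv]
  refine Subtype.ext ?_
  subst e
  simp [ulo, levi, fromBlocks_multiply, sub_eq_add_neg, -Matrix.coe_units_inv, Matrix.add_mul,
    Matrix.mul_assoc]

theorem isConj_uup {A : (MM m F)ˣ} (h : Reg A.1) (X : MM m F) (hX : Xᵀ = X) :
    IsConj (levi A) (levi A * uup X hX) := by
  have hA : Reg ((A⁻¹).1ᵀ) := reg_transpose (reg_inv h)
  obtain ⟨T, hT, e⟩ := exists_solve_symm hA X hX
  refine isConj_iff.2 ⟨uup (-T) (by rw [transpose_neg, hT]), ?_⟩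
  rw [uup_inv]
  refine Subtype.ext ?_
  subst e
  simp [uup, levi, fromBlocks_multiply, sub_eq_add_neg, -Matrix.coe_units_inv, Matrix.mul_add,
    ← Matrix.mul_assoc]

theorem ul_decomp (g : SpM m F) (A : (MM m F)ˣ) (h : (g : Mat m F).toBlocks₁₁ = A.1) :
    ∃ (S X : MM m F) (hS : Sᵀ = S) (hX : Xᵀ = X), g = ulo S hS * levi A * uup X hX := by
  have hmem := g.2
  rw [← fromBlocks_toBlocks (g : Mat m F), SymplecticGroup.fromBlocks_mem_iff, h] at hmem
  obtain ⟨hac, hbd, had⟩ := hmem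
  set B := (g : Mat m F).toBlocks₁₂
  set C := (g : Mat m F).toBlocks₂₁
  set D := (g : Mat m F).toBlocks₂₂
  set a := A.1
  set ai := (A⁻¹).1
  have h1 : a * ai = 1 := A.mul_inv
  have h2 : ai * a = 1 := A.inv_mul
  have h1t : aiᵀ * aᵀ = 1 := by rw [← transpose_mul, h1, transpose_one]
  have hS : (C * ai)ᵀ = C * ai := by
    calc (C * ai)ᵀ = aiᵀ * Cᵀ * (a * ai) := by rw [h1, mul_one, transpose_mul]
      _ = aiᵀ * (Cᵀ * a) * ai := by simp only [Matrix.mul_assoc]
      _ = aiᵀ * (aᵀ * C) * ai := by rw [hac]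
      _ = C * ai := by rw [← Matrix.mul_assoc, h1t, one_mul]
  have hD : D = aiᵀ + C * ai * B := by
    have e : aiᵀ * (aᵀ * D) = aiᵀ * (1 + Cᵀ * B) := by rw [← had, sub_add_cancel]
    rw [← Matrix.mul_assoc, h1t, one_mul, Matrix.mul_add, mul_one, ← Matrix.mul_assoc, ← transpose_mul, hS] at e
    exact e
  have hX : (ai * B)ᵀ = ai * B := by
    have e1 : Bᵀ * D = Bᵀ * aiᵀ + Bᵀ * (C * ai) * B := by
      rw [hD, Matrix.mul_add, ← Matrix.mul_assoc Bᵀ (C * ai)]
    have e2 := congrArg transpose e1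
    rw [transpose_mul, transpose_transpose, ← hbd, e1, transpose_add, transpose_mul, transpose_mul,
      transpose_mul, transpose_transpose, transpose_transpose, hS, ← Matrix.mul_assoc Bᵀ (C * ai)] at e2
    rw [transpose_mul]
    exact add_right_cancel e2
  refine ⟨C * ai, ai * B, hS, hX, Subtype.ext ?_⟩
  rw [Submonoid.coe_mul, Submonoid.coe_mul, ← fromBlocks_toBlocks (g : Mat m F), h]
  simp only [ulo, uup, levi, MonoidHom.coe_mk, OneHom.coe_mk, fromBlocks_multiply]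
  simp only [one_mul, mul_one, Matrix.zero_mul, Matrix.mul_zero, add_zero, zero_add]
  rw [fromBlocks_inj]
  refine ⟨rfl, ?_, ?_, ?_⟩
  · rw [← Matrix.mul_assoc, h1, one_mul]
  · rw [Matrix.mul_assoc, h2, mul_one]
  · show D = C * ai * a * (ai * B) + aiᵀ
    rw [hD, Matrix.mul_assoc C ai a, h2, mul_one, ← Matrix.mul_assoc C ai B, add_comm]

/-- An element with upper left block `A C A⁻¹ C⁻¹` is a commutator. -/
theorem isCom_of_block (g : SpM m F) (A C : (MM m F)ˣ) (hA : Reg A.1)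
    (h : (g : Mat m F).toBlocks₁₁ = (A * C * A⁻¹ * C⁻¹ : (MM m F)ˣ).1) : IsCom g := by
  obtain ⟨S, X, hS, hX, e⟩ := ul_decomp g _ h
  have hr : Reg (C * A⁻¹ * C⁻¹ : (MM m F)ˣ).1 := reg_conj (reg_inv hA)
  have c2 : IsConj (levi A⁻¹) (levi (C * A⁻¹ * C⁻¹) * uup X hX) :=
    ((levi (F := F)).map_isConj (isConj_iff.2 ⟨C, rfl⟩)).trans (isConj_uup hr X hX)
  rw [map_inv] at c2
  have : g = ulo S hS * levi A * (levi (C * A⁻¹ * C⁻¹) * uup X hX) := by
    rw [e, ← mul_assoc, mul_assoc (ulo S hS) (levi A), ← map_mul]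
    simp [mul_assoc]
  rw [this]
  exact isCom_mul_of_isConj (isConj_ulo hA S hS) c2

end Cfsg.Agent.H69.OreSp
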