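import Cfsg.Agent.H69.OreSp.Levi
import Mathlib.FieldTheory.Finite.Extension
import Mathlib.RingTheory.Norm.Basic

/-!
Matrices without fixed bilinear forms.
-/

set_option autoImplicit false
set_option linter.unusedSectionVars false

namespace Cfsg.Agent.H69.OreSp

open Matrix

variable {F : Type*} [Field F] [Fintype F]

theorem exists_reg_scalar (hq : 4 ≤ Fintype.card F) (m : ℕ) :
    ∃ A : (MM m F)ˣ, Reg A.1 := by
  classical
  obtain ⟨w, hw⟩ : ∃ w, w ∉ ({0, 1, -1} : Finset F) := by
    by_contra hcon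
    push Not at hcon
    have := (Finset.card_le_card (s := (Finset.univ : Finset F)) fun x _ => hcon x).trans
      Finset.card_le_three
    rw [Finset.card_univ] at this
    omega
  simp only [Finset.mem_insert, Finset.mem_singleton] at hw
  push Not at hw
  refine ⟨⟨w • 1, w⁻¹ • 1, by simp [smul_smul, hw.1], by simp [smul_smul, hw.1]⟩, fun S he => ?_⟩
  simp only [transpose_smul, transpose_one, Matrix.smul_mul, Matrix.mul_smul, one_mul, mul_one, smul_smul] at he
  ext i j
  have := congrFun (congrFun he i) j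
  simp only [Matrix.smul_apply, smul_eq_mul] at this
  exact (mul_eq_zero.1 (show (w * w - 1) * S i j = 0 by linear_combination this)).resolve_left
    (sub_ne_zero.2 fun h => (mul_self_eq_one_iff.1 h).elim hw.2.1 hw.2.2)

/-- Multiplication by a generator of `GF(qᵐ)ˣ`. -/
theorem exists_reg_singer (p : ℕ) [Fact p.Prime] [CharP F p] (m : ℕ) (hm : 2 ≤ m)
    (hqm : 3 ≤ Fintype.card F ∨ 3 ≤ m) : ∃ A : (MM m F)ˣ, Reg A.1 := by
  classical
  have : NeZero m := ⟨by omega⟩
  set K := FiniteField.Extension F p m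
  have hK : Nat.card K = Nat.card F ^ m := FiniteField.natCard_extension F p m
  have : Finite K := Nat.finite_of_card_ne_zero (by rw [hK]; exact pow_ne_zero _ Nat.card_pos.ne')
  have hdim : Module.finrank F K = m := by
    have h := Module.natCard_eq_pow_finrank (K := F) (V := K)
    rw [hK] at h
    exact (Nat.pow_right_injective Finite.one_lt_card h).symm
  let b : Module.Basis (Fin m) F K := (Module.finBasis F K).reindex (finCongr hdim)
  obtain ⟨g, hg⟩ := IsCyclic.exists_ofOrder_eq_natCard (α := Kˣ)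
  rw [Nat.card_units, hK] at hg
  set l : K := (g : K) with hldef
  let μ : K →ₐ[F] MM m F := Algebra.leftMulMatrix b
  refine ⟨Units.map μ.toRingHom.toMonoidHom g, fun S he => ?_⟩
  change (μ l)ᵀ * S * μ l = S at he
  by_contra hS
  -- annihilators are invariant under multiplication, so `S` is non-degenerate
  let P : LinearMap.BilinForm F K := Matrix.toBilin b S
  have hP : ∀ x y, P (l * x) (l * y) = P x y := by
    intro x y
    have : P.comp (LinearMap.mulLeft F l) (LinearMap.mulLeft F l) = P := by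
      apply (LinearMap.BilinForm.toMatrix b).injective
      rw [LinearMap.BilinForm.toMatrix_comp b b, LinearMap.BilinForm.toMatrix_toBilin]
      rw [show LinearMap.toMatrix b b (LinearMap.mulLeft F l) = μ l from rfl]
      exact he
    exact LinearMap.congr_fun (LinearMap.congr_fun this x) y
  have hl0 : l ≠ 0 := g.ne_zero
  have hpoly : ∀ (f : Polynomial F) (x y : K),
      P (Polynomial.aeval l f * x) y = P x (Polynomial.aeval l⁻¹ f * y) := by
    intro f
    induction f using Polynomial.induction_on with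
    | C a => intro x y; simp [← Algebra.smul_def]
    | add f f' h h' => intro x y; simp [add_mul, h, h']
    | monomial n a h =>
      intro x y
      rw [pow_succ, ← mul_assoc, map_mul _ _ Polynomial.X, map_mul _ _ Polynomial.X, Polynomial.aeval_X,
        Polynomial.aeval_X]
      set u := Polynomial.aeval l (Polynomial.C a * Polynomial.X ^ n)
      have h1 := hP (u * x) (l⁻¹ * y)
      rw [← mul_assoc l l⁻¹, mul_inv_cancel₀ hl0, one_mul] at h1
      rw [show u * l * x = l * (u * x) by ring, h1, h, ← mul_assoc]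
  -- the two powers
  set f := minpoly F l
  have hz : ∀ x y, P x (Polynomial.aeval l⁻¹ f * y) = 0 := by
    intro x y
    rw [← hpoly, minpoly.aeval, zero_mul, map_zero, LinearMap.zero_apply]
  have hroot : Polynomial.aeval l⁻¹ f = 0 := by
    by_contra hne
    refine hS ((Matrix.toBilin b).injective ?_)
    rw [map_zero]
    refine LinearMap.ext₂ fun x y => ?_
    have := hz x ((Polynomial.aeval l⁻¹ f)⁻¹ * y)
    rw [← mul_assoc, mul_inv_cancel₀ hne, one_mul] at this
    exact this
  obtain ⟨k, hk, hlk⟩ : ∃ k < m, l ^ Nat.card F ^ k = l⁻¹ := by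
    have hint : IsIntegral F l := IsIntegral.of_finite F l
    obtain ⟨σ, hσ⟩ : ∃ σ : K ≃ₐ[F] K, σ l = l⁻¹ := by
      have : minpoly F l = minpoly F l⁻¹ :=
        minpoly.eq_of_irreducible_of_monic (minpoly.irreducible hint) hroot (minpoly.monic hint)
      obtain ⟨σ, hσ⟩ := (Normal.minpoly_eq_iff_mem_orbit K).1 this.symm
      exact ⟨σ, hσ⟩
    obtain ⟨k, rfl⟩ := (FiniteField.bijective_frobeniusAlgEquivOfAlgebraic_pow F K).2 σ
    refine ⟨k, lt_of_lt_of_eq k.2 hdim, ?_⟩
    rw [← hσ, AlgEquiv.coe_pow, FiniteField.coe_frobeniusAlgEquivOfAlgebraic_iterate, Nat.card_eq_fintype_card]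
  have hdvd : Nat.card F ^ m - 1 ∣ Nat.card F ^ k + 1 := by
    rw [← hg]
    refine orderOf_dvd_of_pow_eq_one (Units.ext ?_)
    rw [Units.val_pow_eq_pow_val, pow_succ, ← hldef, hlk, inv_mul_cancel₀ hl0, Units.val_one]
  have h1 := Nat.le_of_dvd (Nat.succ_pos _) hdvd
  have hq2 : 2 ≤ Nat.card F := Finite.one_lt_card
  have hle : Nat.card F ^ k ≤ Nat.card F ^ (m - 1) := Nat.pow_le_pow_right (by omega) (by omega)
  have hpow : Nat.card F ^ m = Nat.card F * Nat.card F ^ (m - 1) := by
    rw [← pow_succ', Nat.sub_add_cancel (by omega)]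
  have hbase : Nat.card F ≤ Nat.card F ^ (m - 1) := Nat.le_self_pow (by omega) _
  rcases hqm with hq | hm3
  · rw [← Nat.card_eq_fintype_card] at hq
    have : 3 * Nat.card F ^ (m - 1) ≤ Nat.card F ^ m := by rw [hpow]; exact Nat.mul_le_mul_right _ hq
    omega
  · have h4 : Nat.card F ^ 2 ≤ Nat.card F ^ (m - 1) := Nat.pow_le_pow_right (by omega) (by omega)
    have : 2 * Nat.card F ^ (m - 1) ≤ Nat.card F ^ m := by rw [hpow]; exact Nat.mul_le_mul_right _ hq2
    have : 4 ≤ Nat.card F ^ 2 := by nlinarith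
    omega

/-- A regular matrix conjugate to its negative. -/
theorem exists_reg_neg (p : ℕ) [Fact p.Prime] [CharP F p] (k : ℕ) (hk : 2 ≤ k)
    (hqm : 3 ≤ Fintype.card F ∨ 3 ≤ k) :
    ∃ A C : (MM (k + k) F)ˣ, Reg A.1 ∧ (A * C * A⁻¹ * C⁻¹ : (MM (k + k) F)ˣ).1 = -1 := by
  obtain ⟨B, hB⟩ := exists_reg_singer p k hk hqm
  let e : MM (k + k) F ≃* Matrix (Fin k ⊕ Fin k) (Fin k ⊕ Fin k) F :=
    (Matrix.reindexAlgEquiv F F (finSumFinEquiv.symm)).toMulEquiv
  let A' : (Matrix (Fin k ⊕ Fin k) (Fin k ⊕ Fin k) F)ˣ :=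
    ⟨fromBlocks 0 B.1 1 0, fromBlocks 0 1 (B⁻¹).1 0, by simp [fromBlocks_multiply, fromBlocks_one],
      by simp [fromBlocks_multiply, fromBlocks_one]⟩
  let C' : (Matrix (Fin k ⊕ Fin k) (Fin k ⊕ Fin k) F)ˣ :=
    ⟨fromBlocks 1 0 0 (-1), fromBlocks 1 0 0 (-1), by simp [fromBlocks_multiply, fromBlocks_one],
      by simp [fromBlocks_multiply, fromBlocks_one]⟩
  have hAC : (A' * C' * A'⁻¹ * C'⁻¹ : (Matrix (Fin k ⊕ Fin k) (Fin k ⊕ Fin k) F)ˣ).1 = -1 := by
    simp [A', C', fromBlocks_multiply, ← fromBlocks_one, fromBlocks_neg, -Matrix.coe_units_inv]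
  refine ⟨Units.map e.symm.toMonoidHom A', Units.map e.symm.toMonoidHom C', fun S he => ?_, ?_⟩
  · have he' := congrArg e he
    rw [map_mul, map_mul] at he'
    rw [show e (((Units.map e.symm.toMonoidHom A' : (MM (k + k) F)ˣ) : MM (k + k) F))ᵀ = A'.1ᵀ by
        ext i j; simp [e, A'],
      show e ((Units.map e.symm.toMonoidHom A' : (MM (k + k) F)ˣ) : MM (k + k) F) = A'.1 from
        e.apply_symm_apply _, ← fromBlocks_toBlocks (e S)] at he'
    simp [A', fromBlocks_transpose, fromBlocks_multiply] at he'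
    obtain ⟨h11, h12, h21, h22⟩ := he'
    have z11 := hB (e S).toBlocks₁₁ (by rw [h11] at h22; exact h22)
    have z22 : (e S).toBlocks₂₂ = 0 := h11.trans z11
    have z12 := hB (e S).toBlocks₁₂ (by rw [h21, h12])
    apply e.injective
    rw [← fromBlocks_toBlocks (e S), z11, z22, z12, ← h21]
    rw [z12]
    ext i j
    simp [e]
  · rw [← map_inv, ← map_inv, ← map_mul, ← map_mul, ← map_mul]
    show e.symm (A' * C' * A'⁻¹ * C'⁻¹ : (Matrix (Fin k ⊕ Fin k) (Fin k ⊕ Fin k) F)ˣ).1 = _
    rw [hAC]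
    apply e.injective
    rw [e.apply_symm_apply]
    ext i j
    simp [e, Matrix.one_apply]

end Cfsg.Agent.H69.OreSp
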