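import Cfsg.Agent.H69.OreSp.Res
import Cfsg.Agent.H69.OreSp.Regular
import Cfsg.Agent.H69.OreSp.Four

/-!
Every element of `Sp₂ₘ(q)` is a commutator.
-/

set_option autoImplicit false
set_option linter.unusedSectionVars false

namespace Cfsg.Agent.H69.OreSp

open Cfsg.Agent.Symplectic Module
open LinearMap (BilinForm)
open scoped Matrix

universe u v

variable {F : Type u} [Field F] [Fintype F]

/-- The range of the theorem. -/
def OkRange (F : Type u) [Fintype F] (m : ℕ) : Prop :=
  4 ≤ Fintype.card F ∨ (Fintype.card F = 3 ∧ m ≠ 1) ∨ 3 ≤ m ∨ m = 0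

theorem exists_reg_range (m : ℕ) (h : OkRange F m) : ∃ A : (MM m F)ˣ, Reg A.1 := by
  obtain ⟨p, hp⟩ := CharP.exists F
  have : Fact p.Prime :=
    ⟨(CharP.char_is_prime_or_zero F p).resolve_right (CharP.char_ne_zero_of_finite F p)⟩
  rcases Nat.eq_zero_or_pos m with rfl | hm
  · exact ⟨1, fun S _ => Subsingleton.elim S 0⟩
  rcases h with h | ⟨h, h1⟩ | h | h
  · exact exists_reg_scalar h m
  · exact exists_reg_singer p m (by omega) (Or.inl (by omega))
  · exact exists_reg_singer p m (by omega) (Or.inr h)
  · omega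

theorem isCom_of_neg_good {m : ℕ} (g g' : SpM m F) (hgg : (g : Mat m F) = -(g' : Mat m F))
    (hg : GoodI (spEquiv m F g')) (A C : (MM m F)ˣ) (hA : Reg A.1)
    (hAC : (A * C * A⁻¹ * C⁻¹ : (MM m F)ˣ).1 = -1) : IsCom g := by
  obtain ⟨h, hh⟩ := exists_conj_block g' hg
  refine (isCom_of_block (h * g * h⁻¹) A C hA ?_).conj h
  have e : ((h * g * h⁻¹ : SpM m F) : Mat m F) = -((h * g' * h⁻¹ : SpM m F) : Mat m F) := by
    simp only [Submonoid.coe_mul, hgg, Matrix.mul_neg, Matrix.neg_mul]
  rw [hAC, e, ← hh]
  rfl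

theorem isCom_isom : ∀ (n : ℕ) (V : Type v) [AddCommGroup V] [Module F V] [FiniteDimensional F V]
    (B : BilinForm F V), B.IsAlt → B.Nondegenerate → ∀ m, m = n → finrank F V = 2 * m → OkRange F m →
    ∀ g : Isom B, IsCom g := by
  intro n
  induction n using Nat.strong_induction_on with
  | _ n IH =>
    intro V _ _ _ B hA hB m hmn hdim hok g
    obtain ⟨m', E, hm', hE⟩ := exists_std_equiv hA hB
    obtain rfl : m' = m := by omega
    have hE' : ∀ u v, spB m' F (E u) (E v) = B u v := fun u v => by rw [spB_apply, hE]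
    let φ : Isom B ≃* SpM m' F := (isomCongr E hE').trans (spEquiv m' F).symm
    have back : ∀ x, IsCom (φ x) → IsCom x := fun x hx => by
      have := hx.map φ.symm.toMonoidHom
      simpa using this
    have hφ : ∀ x, spEquiv m' F (φ x) = isomCongr E hE' x := fun x => (spEquiv m' F).apply_symm_apply _
    rcases res_all _ V B hA hB rfl g with hg | ⟨U, hUg, hU, hbad⟩
    · obtain ⟨A, hA'⟩ := exists_reg_range m' hok
      exact back g (isCom_of_good _ (by rw [hφ]; exact hg.congr E hE') A hA')
    obtain ⟨h21, d, hd, hUd, hcU, hgU, hd1⟩ := hbad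
    have hq3 : 3 ≤ Fintype.card F := by
      by_contra hlt
      have hc : Fintype.card F = 2 := by have := Fintype.one_lt_card (α := F); omega
      have : CharP F 2 := charP_of_card_eq_prime hc
      exact h21 (CharTwo.neg_eq 1)
    have hW := restrict_orth_nondeg hA.isRefl hB hU
    have hWd : finrank F (B.orthogonal U) = 2 * (m' - d) := by
      rw [finrank_orth hA.isRefl hB hU, hdim, hUd]; omega
    have hWg := orth_invariant hA g hUg
    have hd0 : 1 ≤ d := by obtain ⟨k, rfl⟩ := hd; omega
    have hdm : d ≤ m' := by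
      have := Submodule.finrank_le U
      omega
    by_cases hsmall : Fintype.card F = 3 ∧ m' - d = 1
    swap
    · refine isCom_of_parts hA hB hU g hUg hcU ?_
      refine IH (m' - d) (by omega) _ _ (restrict_alt _ hA) hW _ rfl hWd ?_ _
      rcases Nat.lt_or_ge (Fintype.card F) 4 with h4 | h4
      · exact Or.inr (Or.inl ⟨by omega, fun h1 => hsmall ⟨by omega, h1⟩⟩)
      · exact Or.inl h4
    obtain ⟨hq, hmd⟩ := hsmall
    rw [hmd, mul_one] at hWd
    set t := resI g _ hWg with ht
    by_cases hsc : ∃ c : F, ∀ x ∈ B.orthogonal U, g.1 x = c • x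
    · obtain ⟨c, hc⟩ := hsc
      refine isCom_of_parts hA hB hU g hUg hcU ?_
      obtain ⟨e, f, hef⟩ := exists_pair (restrict_alt _ hA) hW (by omega)
      replace hef : B (e : V) f = -1 := hef
      have h2 := g.2 (e : V) f
      rw [hc _ e.2, hc _ f.2, map_smul, map_smul, LinearMap.smul_apply, hef, smul_smul, smul_eq_mul] at h2
      rcases mul_self_eq_one_iff.1 (show c * c = 1 by linear_combination -h2) with rfl | rfl
      · have : t = 1 := Subtype.ext (LinearEquiv.ext fun x => Subtype.ext (by
          rw [ht, resI_apply, hc _ x.2, one_smul]; rfl))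
        rw [ht] at this
        rw [this]
        exact isCom_one
      · exact isCom_neg_plane (restrict_alt _ hA) hW hWd h21 _ fun x => Subtype.ext (by
          rw [resI_apply, hc _ x.2, neg_smul, one_smul, Submodule.coe_neg])
    rcases Nat.lt_or_ge d 2 with hd2 | hd2
    · have hd' : d = 1 := by omega
      exact isCom_four hq hA hB g hU (by omega)
        (fun x hx => congrArg Subtype.val (hd1 hd' ⟨x, hx⟩)) hWd hWg hsc
    have hgood : GoodI (negI t) := by
      rcases plane_good_or_scalar (restrict_alt _ hA) hW hWd (negI t) with h | h | h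
      · exact h
      · refine absurd ⟨(-1 : F), fun x hx => ?_⟩ hsc
        have := congrArg Subtype.val (h ⟨x, hx⟩)
        rw [negI_apply, Submodule.coe_neg, resI_apply, neg_eq_iff_eq_neg] at this
        rw [neg_smul, one_smul]; exact this
      · refine absurd ⟨(1 : F), fun x hx => ?_⟩ hsc
        have := congrArg Subtype.val (h ⟨x, hx⟩)
        rw [negI_apply, Submodule.coe_neg, resI_apply, Submodule.coe_neg, neg_inj] at this
        rw [one_smul]; exact this
    obtain ⟨p, hp⟩ := CharP.exists F
    have : Fact p.Prime :=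
      ⟨(CharP.char_is_prime_or_zero F p).resolve_right (CharP.char_ne_zero_of_finite F p)⟩
    obtain ⟨j, rfl⟩ := hd
    obtain rfl : m' = (j + 1) + (j + 1) := by omega
    obtain ⟨A, C, hA', hAC⟩ := exists_reg_neg (F := F) p (j + 1) (by omega) (Or.inl hq3)
    have hgV : GoodI (negI g) := by
      have hnU : ∀ x ∈ U, (negI g).1 x ∈ U := fun x hx => by
        rw [negI_apply]; exact U.neg_mem (hUg x hx)
      exact good_of_parts hA hB hU (negI g) hnU hgU hgood
    refine back g (isCom_of_neg_good (φ g) (φ (negI g)) ?_ (by rw [hφ]; exact hgV.congr E hE') A C hA' hAC)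
    refine Matrix.ext_of_mulVec_single fun i => ?_
    rw [Matrix.neg_mulVec, ← spEquiv_apply, ← spEquiv_apply, hφ, hφ]
    show E (g.1 (E.symm _)) = -E ((negI g).1 (E.symm _))
    rw [negI_apply, map_neg, neg_neg]

end Cfsg.Agent.H69.OreSp
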