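import Cfsg.Agent.H69.OreSp.Basic
import Mathlib.RingTheory.PrincipalIdealDomain
import Mathlib.LinearAlgebra.Charpoly.Basic

/-!
Splitting isometries into good and bad pieces: general steps.
-/

set_option autoImplicit false
set_option linter.unusedSectionVars false

namespace Cfsg.Agent.H69.OreSp

open Cfsg.Agent.Symplectic Module Polynomial
open LinearMap (BilinForm)

variable {F V V' : Type*} [Field F] [AddCommGroup V] [Module F V] [AddCommGroup V'] [Module F V']

/-- The negative of an isometry. -/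
def negI {B : BilinForm F V} (g : Isom B) : Isom B :=
  ⟨g.1.trans (LinearEquiv.neg F), fun u v => by
    show B (-(g.1 u)) (-(g.1 v)) = B u v
    rw [map_neg, map_neg, LinearMap.neg_apply, neg_neg, g.2]⟩

theorem negI_apply {B : BilinForm F V} (g : Isom B) (x : V) : (negI g).1 x = -(g.1 x) := rfl

/-- The summands without good Lagrangian. -/
def BadI {B : BilinForm F V} (g : Isom B) : Prop :=
  (-1 : F) ≠ 1 ∧ ∃ d, Odd d ∧ finrank F V = 2 * d ∧ IsCom g ∧ GoodI (negI g) ∧
    (d = 1 → ∀ x, g.1 x = -x)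

theorem BadI.congr {B : BilinForm F V} {B' : BilinForm F V'} (e : V ≃ₗ[F] V')
    (h : ∀ u v, B' (e u) (e v) = B u v) {g : Isom B} (hg : BadI g) : BadI (isomCongr e h g) := by
  obtain ⟨h2, d, hd, hf, hc, hn, h1⟩ := hg
  refine ⟨h2, d, hd, by rw [← e.finrank_eq, hf], hc.map (isomCongr e h).toMonoidHom, ?_, ?_⟩
  · have : negI (isomCongr e h g) = isomCongr e h (negI g) :=
      Subtype.ext (LinearEquiv.ext fun x => (map_neg e _).symm)
    rw [this]
    exact hn.congr e h
  · intro hd1 x
    show e (g.1 (e.symm x)) = -x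
    rw [h1 hd1, map_neg, e.apply_symm_apply]

variable [FiniteDimensional F V]

/-- Either good, or a bad summand exists. -/
def Res {B : BilinForm F V} (g : Isom B) : Prop :=
  GoodI g ∨ ∃ (U : Submodule F V) (hU : ∀ x ∈ U, g.1 x ∈ U),
    (B.restrict U).Nondegenerate ∧ BadI (resI g U hU)

variable {B : BilinForm F V} (hA : B.IsAlt) (hB : B.Nondegenerate)

include hA in
/-- `B (a (K) x) x = 0`. -/
theorem poly_sum_alt (g : Isom B) (p : F[X]) (x : V) :
    B (aeval (g.1.toLinearMap + g.1.symm.toLinearMap : Module.End F V) p x) x = 0 := by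
  set K : Module.End F V := g.1.toLinearMap + g.1.symm.toLinearMap
  have hK : ∀ a b, B (K a) b = B a (K b) := by
    intro a b
    have e1 : B (g.1 a) b = B a (g.1.symm b) := by
      conv_lhs => rw [← g.1.apply_symm_apply b]
      rw [g.2]
    have e2 : B (g.1.symm a) b = B a (g.1 b) := by
      rw [← g.2 (g.1.symm a) b, g.1.apply_symm_apply]
    simp only [K, LinearMap.add_apply, map_add, LinearEquiv.coe_coe, e1, e2, add_comm]
  have hKn : ∀ (n : ℕ) a b, B ((K ^ n) a) b = B a ((K ^ n) b) := by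
    intro n
    induction n with
    | zero => intro a b; rfl
    | succ n ih =>
      intro a b
      rw [pow_succ, Module.End.mul_apply, ih, hK, ← Module.End.mul_apply, ← pow_succ', ← pow_succ]
  induction p using Polynomial.induction_on' with
  | add p q hp hq => rw [map_add, LinearMap.add_apply, map_add, LinearMap.add_apply, hp, hq, add_zero]
  | monomial n c =>
    rw [aeval_monomial, Module.algebraMap_end_eq_smul_id, Module.End.mul_apply, LinearMap.smul_apply,
      LinearMap.id_apply, map_smul, LinearMap.smul_apply]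
    rcases Nat.even_or_odd n with ⟨i, rfl⟩ | ⟨i, rfl⟩
    · rw [pow_add, Module.End.mul_apply, hKn, alt_self hA, smul_zero]
    · rw [show 2 * i + 1 = i + (i + 1) by omega, pow_add, Module.End.mul_apply, hKn, pow_succ',
        Module.End.mul_apply]
      set y := (K ^ i) x
      have e2 : B (g.1.symm y) y = B y (g.1 y) := by
        rw [← g.2 (g.1.symm y) y, g.1.apply_symm_apply]
      have : B (K y) y = 0 := by
        simp only [K, LinearMap.add_apply, map_add, LinearEquiv.coe_coe, e2]
        rw [alt_swap hA y (g.1 y), add_neg_cancel]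
      rw [this, smul_zero]

theorem poly_sum_adj (g : Isom B) (p : F[X]) (x y : V) :
    B (aeval (g.1.toLinearMap + g.1.symm.toLinearMap : Module.End F V) p x) y =
      B x (aeval (g.1.toLinearMap + g.1.symm.toLinearMap : Module.End F V) p y) := by
  set K : Module.End F V := g.1.toLinearMap + g.1.symm.toLinearMap
  induction p using Polynomial.induction_on generalizing x y with
  | C a => simp
  | add p q hp hq => simp [hp, hq]
  | monomial n a ih =>
    have e1 : ∀ u v, B (K u) v = B u (K v) := by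
      intro u v
      have e1 : B (g.1 u) v = B u (g.1.symm v) := by
        conv_lhs => rw [← g.1.apply_symm_apply v]
        rw [g.2]
      have e2 : B (g.1.symm u) v = B u (g.1 v) := by
        rw [← g.2 (g.1.symm u) v, g.1.apply_symm_apply]
      simp only [K, LinearMap.add_apply, map_add, LinearEquiv.coe_coe, e1, e2, add_comm]
    rw [pow_succ, ← mul_assoc, map_mul _ _ X, aeval_X, Module.End.mul_apply, ih, e1,
      ← Module.End.mul_apply]
    nth_rewrite 1 [← aeval_X (R := F) K]
    rw [← map_mul, mul_comm X, map_mul _ _ X, aeval_X]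

/-- `B (x) (y)` for `P` nondegenerate gives back `Res` from the parts. -/
theorem res_of_parts {P : Submodule F V} (hP : (B.restrict P).Nondegenerate) (g : Isom B)
    (hA : B.IsAlt) (hB : B.Nondegenerate)
    (hg : ∀ x ∈ P, g.1 x ∈ P) (h1 : Res (resI g P hg))
    (h2 : Res (resI g _ (orth_invariant hA g hg))) : Res g := by
  have lift : ∀ (Q : Submodule F V) (hQ : ∀ x ∈ Q, g.1 x ∈ Q) (U : Submodule F Q)
      (hU : ∀ x ∈ U, (resI g Q hQ).1 x ∈ U), ((B.restrict Q).restrict U).Nondegenerate →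
      BadI (resI (resI g Q hQ) U hU) → Res g := by
    intro Q hQ U hU hnd hbad
    have hW : ∀ x ∈ U.map Q.subtype, g.1 x ∈ U.map Q.subtype := by
      rintro _ ⟨x, hx, rfl⟩
      exact ⟨_, hU x hx, rfl⟩
    let e : U ≃ₗ[F] U.map Q.subtype := Submodule.equivSubtypeMap Q U
    have he : ∀ u v, (B.restrict (U.map Q.subtype)) (e u) (e v) = ((B.restrict Q).restrict U) u v :=
      fun _ _ => rfl
    refine Or.inr ⟨_, hW, ?_, ?_⟩
    · refine ⟨fun x hx => ?_, fun x hx => ?_⟩
      · obtain ⟨u, rfl⟩ := e.surjective x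
        rw [hnd.1 u fun v => (he u v).symm.trans (hx _), map_zero]
      · obtain ⟨u, rfl⟩ := e.surjective x
        rw [hnd.2 u fun v => (he v u).symm.trans (hx _), map_zero]
    · have : resI g (U.map Q.subtype) hW = isomCongr e he (resI (resI g Q hQ) U hU) := by
        refine Subtype.ext (LinearEquiv.ext fun x => ?_)
        obtain ⟨u, rfl⟩ := e.surjective x
        refine Subtype.ext ?_
        show g.1 (e u) = (e ((resI (resI g Q hQ) U hU).1 (e.symm (e u))) : V)
        rw [e.symm_apply_apply]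
        rfl
      rw [this]
      exact hbad.congr e he
  rcases h1 with h1 | ⟨U, hU, hnd, hbad⟩
  · rcases h2 with h2 | ⟨U, hU, hnd, hbad⟩
    · exact Or.inl (good_of_parts hA hB hP g hg h1 h2)
    · exact lift _ _ U hU hnd hbad
  · exact lift _ _ U hU hnd hbad

section Step

variable (g : Isom B)
  (ih : ∀ (P : Submodule F V) (hg : ∀ x ∈ P, g.1 x ∈ P), (B.restrict P).Nondegenerate → P ≠ ⊤ →
    Res (resI g P hg))

include hA hB ih

theorem res_of_good_part {U : Submodule F V} (hU : (B.restrict U).Nondegenerate)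
    (hg : ∀ x ∈ U, g.1 x ∈ U) (h0 : U ≠ ⊥) (h : GoodI (resI g U hg)) : Res g := by
  refine res_of_parts hU g hA hB hg (Or.inl h) (ih _ _ (restrict_orth_nondeg hA.isRefl hB hU) ?_)
  intro htop
  refine h0 (eq_bot_iff.2 fun x hx => ?_)
  have := (isCompl_orth hA.isRefl hB hU).inf_eq_bot
  rw [htop, inf_top_eq] at this
  exact this ▸ hx

/-- Splitting along coprime factors. -/
theorem res_of_coprime (a b : F[X]) (hab : IsCoprime a b)
    (hz : aeval (g.1.toLinearMap + g.1.symm.toLinearMap : Module.End F V) (a * b) = 0)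
    (ha : aeval (g.1.toLinearMap + g.1.symm.toLinearMap : Module.End F V) a ≠ 0)
    (hb : aeval (g.1.toLinearMap + g.1.symm.toLinearMap : Module.End F V) b ≠ 0) : Res g := by
  set K : Module.End F V := g.1.toLinearMap + g.1.symm.toLinearMap
  obtain ⟨s, t, hst⟩ := hab
  have hone : ∀ x, aeval K (s * a) x + aeval K (t * b) x = x := fun x => by
    rw [← LinearMap.add_apply, ← map_add, hst, map_one, Module.End.one_apply]
  set P := LinearMap.ker (aeval K a)
  set Q := LinearMap.ker (aeval K b)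
  have horth : ∀ x ∈ P, ∀ y ∈ Q, B x y = 0 := by
    intro x hx y hy
    rw [LinearMap.mem_ker] at hx hy
    rw [← hone y, map_mul, map_mul, Module.End.mul_apply, Module.End.mul_apply, hy, map_zero,
      add_zero, ← Module.End.mul_apply, ← map_mul, ← poly_sum_adj, map_mul, Module.End.mul_apply, hx,
      map_zero, map_zero, LinearMap.zero_apply]
  have hsup : ∀ v, ∃ x ∈ P, ∃ y ∈ Q, x + y = v := by
    intro v
    refine ⟨aeval K (t * b) v, ?_, aeval K (s * a) v, ?_, by rw [add_comm, hone]⟩
    · rw [LinearMap.mem_ker, ← Module.End.mul_apply, ← map_mul, mul_left_comm a t b, map_mul, hz,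
        mul_zero, LinearMap.zero_apply]
    · rw [LinearMap.mem_ker, ← Module.End.mul_apply, ← map_mul, mul_left_comm b s a, mul_comm b a,
        map_mul, hz, mul_zero, LinearMap.zero_apply]
  have hP : (B.restrict P).Nondegenerate := by
    have key : ∀ x : P, (∀ y : P, B (x : V) y = 0) → x = 0 := by
      intro x hx
      refine Subtype.ext (hB.1 _ fun v => ?_)
      obtain ⟨p, hp, q, hq, rfl⟩ := hsup v
      rw [map_add, horth _ x.2 q hq, add_zero]
      exact hx ⟨p, hp⟩
    exact ⟨key, fun x hx => key x fun y => by rw [alt_swap hA]; simpa using hx y⟩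
  have hcomm : ∀ (p : F[X]) (v : V), g.1 (aeval K p v) = aeval K p (g.1 v) := by
    intro p v
    have h1 : Commute g.1.toLinearMap K := by
      refine LinearMap.ext fun w => ?_
      simp only [K, Module.End.mul_apply, LinearMap.add_apply, map_add, LinearEquiv.coe_coe,
        LinearEquiv.apply_symm_apply, LinearEquiv.symm_apply_apply]
    exact LinearMap.congr_fun (Algebra.commute_of_mem_adjoin_singleton_of_commute
      (aeval_mem_adjoin_singleton F K) h1).eq v
  have hg : ∀ x ∈ P, g.1 x ∈ P := by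
    intro x hx
    rw [LinearMap.mem_ker] at hx ⊢
    rw [← hcomm, hx, map_zero]
  refine res_of_parts hP g hA hB hg (ih P hg hP fun h => ha (LinearMap.ker_eq_top.1 h))
    (ih _ _ (restrict_orth_nondeg hA.isRefl hB hP) fun h => hb ?_)
  have hbot : P = ⊥ := by
    have := (isCompl_orth hA.isRefl hB hP).inf_eq_bot
    rwa [h, inf_top_eq] at this
  refine LinearMap.ext fun v => ?_
  obtain ⟨x, hx, y, hy, rfl⟩ := hsup v
  rw [hbot, Submodule.mem_bot] at hx
  rw [hx, zero_add, LinearMap.mem_ker.1 hy, LinearMap.zero_apply]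

/-- The generic case. -/
theorem res_of_generic (π : F[X]) (e : ℕ) (hπ : Irreducible π) (he : 1 ≤ e)
    (hann : ∀ p : F[X], aeval (g.1.toLinearMap + g.1.symm.toLinearMap : Module.End F V) p = 0 ↔ π ^ e ∣ p)
    (u : V) (j : ℕ)
    (h : B (g.1 u) (aeval (g.1.toLinearMap + g.1.symm.toLinearMap : Module.End F V)
      (X ^ j * π ^ (e - 1)) u) ≠ 0) : Res g := by
  set K : Module.End F V := g.1.toLinearMap + g.1.symm.toLinearMap with hKdef
  have hsoc : ∀ p : F[X], aeval K p ≠ 0 → ∃ s, aeval K (s * p) = aeval K (π ^ (e - 1)) := by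
    intro p hp
    have hp0 : p ≠ 0 := fun h0 => hp (by rw [h0, map_zero])
    obtain ⟨i, q, hq, rfl⟩ := WfDvdMonoid.max_power_factor hp0 hπ
    have hi : i < e := by
      by_contra hcon
      exact hp ((hann _).2 (dvd_mul_of_dvd_left (pow_dvd_pow π (by omega)) q))
    obtain ⟨s, t, hst⟩ := (hπ.coprime_iff_not_dvd.2 hq).pow_left (m := e)
    refine ⟨π ^ (e - 1 - i) * t, sub_eq_zero.1 ?_⟩
    rw [← map_sub, hann]
    refine ⟨-(π ^ (e - 1) * s), ?_⟩
    have hpow : π ^ (e - 1 - i) * π ^ i = π ^ (e - 1) := by rw [← pow_add, Nat.sub_add_cancel (by omega)]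
    linear_combination (π ^ (e - 1)) * hst + (t * q) * hpow
  have hcomm : ∀ (p : F[X]) (v : V), g.1 (aeval K p v) = aeval K p (g.1 v) := by
    intro p v
    have h1 : Commute g.1.toLinearMap K := by
      refine LinearMap.ext fun w => ?_
      simp only [K, Module.End.mul_apply, LinearMap.add_apply, map_add, LinearEquiv.coe_coe,
        LinearEquiv.apply_symm_apply, LinearEquiv.symm_apply_apply]
    exact LinearMap.congr_fun (Algebra.commute_of_mem_adjoin_singleton_of_commute
      (aeval_mem_adjoin_singleton F K) h1).eq v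
  have halt : ∀ (p q : F[X]) (w : V), B (aeval K p w) (aeval K q w) = 0 := by
    intro p q w
    rw [← poly_sum_adj, ← Module.End.mul_apply, ← map_mul]
    exact poly_sum_alt hA g _ w
  let Φ : F[X] →ₗ[F] V := (LinearMap.applyₗ u).comp (aeval K).toLinearMap
  have hΦ : ∀ p, Φ p = aeval K p u := fun _ => rfl
  set E := LinearMap.range Φ
  set U := E ⊔ E.map (g.1 : V →ₗ[F] V)
  have key : ∀ p q : F[X], (∀ p' q', B (Φ p + g.1 (Φ q)) (Φ p' + g.1 (Φ q')) = 0) →
      aeval K p = 0 ∧ aeval K q = 0 := by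
    intro p q hpq
    constructor <;> by_contra hne <;> obtain ⟨s, hs⟩ := hsoc _ hne <;> apply h
    · have h1 := hpq 0 (X ^ j * s)
      rw [map_zero, zero_add, map_add, LinearMap.add_apply, g.2, hΦ q, hΦ (X ^ j * s),
        halt, add_zero, hΦ, hcomm, ← poly_sum_adj, ← Module.End.mul_apply, ← map_mul, mul_assoc,
        map_mul, hs, ← map_mul, alt_swap hA, neg_eq_zero] at h1
      exact h1
    · have h1 := hpq (X ^ j * s) 0
      rw [map_zero, map_zero, add_zero, map_add, LinearMap.add_apply, hΦ p, hΦ (X ^ j * s), halt,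
        zero_add, hΦ, hcomm, poly_sum_adj, ← Module.End.mul_apply, ← map_mul,
        show q * (X ^ j * s) = X ^ j * (s * q) by ring, map_mul, hs, ← map_mul] at h1
      exact h1
  have hmem : ∀ z ∈ U, ∃ p q, z = Φ p + g.1 (Φ q) := by
    intro z hz
    obtain ⟨_, ⟨p, rfl⟩, _, ⟨_, ⟨q, rfl⟩, rfl⟩, rfl⟩ := Submodule.mem_sup.1 hz
    exact ⟨p, q, rfl⟩
  have hin : ∀ p q, Φ p + g.1 (Φ q) ∈ U := fun p q =>
    Submodule.add_mem_sup ⟨p, rfl⟩ ⟨_, ⟨q, rfl⟩, rfl⟩
  have hinv : ∀ z ∈ U, g.1 z ∈ U := by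
    intro z hz
    obtain ⟨p, q, rfl⟩ := hmem z hz
    have h2 : g.1 (g.1 (Φ q)) = g.1 (Φ (X * q)) - Φ q := by
      rw [hΦ, hΦ, map_mul, aeval_X, Module.End.mul_apply]
      simp [hKdef]
    have : g.1 (Φ p + g.1 (Φ q)) = Φ (-q) + g.1 (Φ (p + X * q)) := by
      rw [map_add, h2, map_neg, map_add, map_add]; abel
    rw [this]
    exact hin _ _
  have hnd : (B.restrict U).Nondegenerate := by
    have k1 : ∀ x : U, (∀ y : U, B (x : V) y = 0) → x = 0 := by
      intro x hx
      obtain ⟨p, q, hpq⟩ := hmem _ x.2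
      obtain ⟨hp, hq⟩ := key p q fun p' q' => hpq ▸ hx ⟨_, hin p' q'⟩
      refine Subtype.ext ?_
      rw [hpq, hΦ, hΦ, hp, hq]
      simp
    exact ⟨k1, fun x hx => k1 x fun y => by rw [alt_swap hA]; simpa using hx y⟩
  have hdisj : ∀ z ∈ E, z ∈ E.map (g.1 : V →ₗ[F] V) → z = 0 := by
    rintro z ⟨p, rfl⟩ ⟨_, ⟨q, rfl⟩, hq⟩
    have h0 : Φ p + g.1 (Φ (-q)) = 0 := by
      rw [map_neg, map_neg]
      exact (congrArg (Φ p + -·) hq).trans (add_neg_cancel _)
    obtain ⟨hp, -⟩ := key p (-q) fun p' q' => by rw [h0, map_zero, LinearMap.zero_apply]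
    rw [hΦ, hp, LinearMap.zero_apply]
  have hu : u ≠ 0 := fun h0 => h (by rw [h0]; simp)
  have huU : u ∈ U := Submodule.mem_sup_left ⟨1, by simp [hΦ]⟩
  refine res_of_good_part hA hB g ih hnd hinv (fun h0 => hu ((Submodule.mem_bot F).1 (h0 ▸ huU))) ?_
  refine ⟨E.comap U.subtype, ?_, ?_, ?_, ?_⟩
  · have hfr := Submodule.finrank_sup_add_finrank_inf_eq E (E.map (g.1 : V →ₗ[F] V))
    have h0 : E ⊓ E.map (g.1 : V →ₗ[F] V) = ⊥ :=
      eq_bot_iff.2 fun z hz => (Submodule.mem_bot F).2 (hdisj z hz.1 hz.2)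
    rw [h0, finrank_bot, LinearEquiv.finrank_map_eq] at hfr
    rw [LinearEquiv.finrank_eq (Submodule.comapSubtypeEquivOfLe (le_sup_left : E ≤ U))]
    show finrank F U = _
    simp only [U] at hfr ⊢
    omega
  all_goals
    intro x hx
    obtain ⟨p, hp⟩ := hx
  · intro y hy
    obtain ⟨q, hq⟩ := hy
    show B (x : V) (y : V) = 0
    rw [Submodule.subtype_apply] at hp hq
    rw [← hp, ← hq]
    exact halt p q u
  · intro y hy
    obtain ⟨q, hq⟩ := hy
    show B (g.1 x - (x : V)) (g.1 y - (y : V)) = 0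
    rw [Submodule.subtype_apply] at hp hq
    rw [← hp, ← hq, hΦ, hΦ, hcomm, hcomm, ← map_sub, ← map_sub]
    exact halt p q _
  · intro hgx
    rw [Submodule.subtype_apply] at hp
    have h0 : g.1 (x : V) = 0 := hdisj _ hgx ⟨x, ⟨p, hp⟩, rfl⟩
    refine Subtype.ext ?_
    rw [resI_apply, h0]
    exact (g.1.map_eq_zero_iff.1 h0).symm

end Step

end Cfsg.Agent.H69.OreSp
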