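import Cfsg.Agent.H69.OreSp.Unip
import Mathlib.FieldTheory.Minpoly.Field

/-!
Every symplectic isometry is good or has a bad summand.
-/

set_option autoImplicit false
set_option linter.unusedSectionVars false

namespace Cfsg.Agent.H69.OreSp

open Cfsg.Agent.Symplectic Module Polynomial
open LinearMap (BilinForm)

universe u v

variable {F : Type u} [Field F] [Fintype F]

theorem res_primary {V : Type v} [AddCommGroup V] [Module F V] [FiniteDimensional F V]
    {B : BilinForm F V} (hA : B.IsAlt) (hB : B.Nondegenerate) (g : Isom B)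
    (ih : ∀ (P : Submodule F V) (hg : ∀ x ∈ P, g.1 x ∈ P), (B.restrict P).Nondegenerate → P ≠ ⊤ →
      Res (resI g P hg))
    (π : F[X]) (e : ℕ) (hπ : Irreducible π) (he : 1 ≤ e)
    (hann : ∀ p : F[X],
      aeval (g.1.toLinearMap + g.1.symm.toLinearMap : Module.End F V) p = 0 ↔ π ^ e ∣ p) : Res g := by
  set K : Module.End F V := g.1.toLinearMap + g.1.symm.toLinearMap with hK
  set Pi := aeval K (π ^ (e - 1)) with hPi
  by_cases hcase : ∃ u, B (g.1 u) (Pi u) ≠ 0
  · obtain ⟨u, hu⟩ := hcase
    refine res_of_generic hA hB g ih π e hπ he hann u 0 ?_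
    rwa [pow_zero, one_mul]
  push Not at hcase
  have hcomm : ∀ (p : F[X]) (v : V), g.1 (aeval K p v) = aeval K p (g.1 v) := by
    intro p v
    have h1 : Commute g.1.toLinearMap K := by
      refine LinearMap.ext fun w => ?_
      simp only [K, Module.End.mul_apply, LinearMap.add_apply, map_add, LinearEquiv.coe_coe,
        LinearEquiv.apply_symm_apply, LinearEquiv.symm_apply_apply]
    exact LinearMap.congr_fun (Algebra.commute_of_mem_adjoin_singleton_of_commute
      (aeval_mem_adjoin_singleton F K) h1).eq v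
  have hskew : ∀ x, Pi (g.1 x - g.1.symm x) = 0 := by
    intro x
    refine hB.1 _ fun y => ?_
    have h0 := hcase (x + y)
    have hPadj : ∀ a b, B (Pi a) b = B a (Pi b) := poly_sum_adj g _
    simp only [map_add, LinearMap.add_apply, hcase x, hcase y] at h0
    have e1 : B (Pi (g.1 x)) y = B (g.1 x) (Pi y) := hPadj _ _
    have e2 : B (Pi (g.1.symm x)) y = -B (g.1 y) (Pi x) := by
      rw [hPadj, ← g.2 (g.1.symm x), g.1.apply_symm_apply, hPi, hcomm, ← poly_sum_adj, ← hPi,
        alt_swap hA]
    rw [map_sub, map_sub, LinearMap.sub_apply, e1, e2]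
    linear_combination h0
  have hdvd : π ∣ (X - C (2 : F)) * (X + C 2) := by
    have h0 : aeval K (π ^ (e - 1) * ((X - C (2 : F)) * (X + C 2))) = 0 := by
      refine LinearMap.ext fun x => ?_
      rw [map_mul, Module.End.mul_apply, ← hPi, LinearMap.zero_apply]
      have : aeval K ((X - C (2 : F)) * (X + C 2)) x =
          g.1 (g.1 x - g.1.symm x) - g.1.symm (g.1 x - g.1.symm x) := by
        rw [show (X - C (2 : F)) * (X + C 2) = X * X - C (2 * 2) by rw [C_mul]; ring, map_sub, map_mul,
          aeval_X, aeval_C, LinearMap.sub_apply, Module.algebraMap_end_apply]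
        simp only [hK, Module.End.mul_apply, LinearMap.add_apply, map_add, map_sub,
          LinearEquiv.coe_coe, LinearEquiv.apply_symm_apply, LinearEquiv.symm_apply_apply]
        module
      rw [this]
      exact hskew _
    rw [hann, show e = (e - 1) + 1 by omega, pow_succ, Nat.add_sub_cancel,
      mul_dvd_mul_iff_left (pow_ne_zero _ hπ.ne_zero)] at h0
    exact h0
  have hlin : ∀ a : F, Irreducible (X - C a) := irreducible_X_sub_C
  obtain ⟨ε, hε, hassoc⟩ : ∃ ε : F, (ε = 1 ∨ (ε = -1 ∧ (-1 : F) ≠ 1)) ∧ Associated π (X - C (2 * ε)) := by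
    rcases hπ.prime.dvd_or_dvd hdvd with h | h
    · exact ⟨1, Or.inl rfl, by rw [mul_one]; exact hπ.associated_of_dvd (hlin 2) h⟩
    · by_cases h2 : (-1 : F) = 1
      · refine ⟨1, Or.inl rfl, ?_⟩
        rw [show X + C (2 : F) = X - C (2 * 1) by
          rw [mul_one, show (2 : F) = 0 by linear_combination -h2]; simp] at h
        exact hπ.associated_of_dvd (hlin _) h
      · refine ⟨-1, Or.inr ⟨rfl, h2⟩, ?_⟩
        rw [show X + C (2 : F) = X - C (2 * -1) by simp] at h
        exact hπ.associated_of_dvd (hlin _) h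
  have hεε : ε * ε = 1 := by rcases hε with rfl | ⟨rfl, -⟩ <;> ring
  obtain ⟨h, hgh⟩ : ∃ h : Isom B, ∀ x, g.1 x = ε • h.1 x := by
    rcases hε with rfl | ⟨rfl, -⟩
    · exact ⟨g, fun x => (one_smul F _).symm⟩
    · exact ⟨negI g, fun x => by rw [negI_apply, neg_smul, one_smul, neg_neg]⟩
  have hhg : ∀ x, h.1 x = ε • g.1 x := fun x => by rw [hgh, smul_smul, hεε, one_smul]
  have hhgs : ∀ x, h.1.symm x = ε • g.1.symm x := fun x => by
    apply h.1.injective
    rw [h.1.apply_symm_apply, map_smul, hhg, g.1.apply_symm_apply, smul_smul, hεε, one_smul]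
  set M : Module.End F V := h.1.toLinearMap + h.1.symm.toLinearMap - 2
  set N : Module.End F V := h.1.toLinearMap - 1
  set H : Module.End F V := h.1.toLinearMap
  have hM : M = aeval K (C ε * (X - C (2 * ε))) := by
    refine LinearMap.ext fun x => ?_
    have e2 : ε * (2 * ε) = 2 := by linear_combination 2 * hεε
    simp only [M, hK, map_mul, map_sub, aeval_C, aeval_X, Module.End.mul_apply, LinearMap.sub_apply,
      Module.algebraMap_end_apply, LinearMap.add_apply, LinearEquiv.coe_coe, smul_sub, smul_add,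
      smul_smul, Module.End.ofNat_apply, hhg, hhgs]
    rw [e2]
    module
  have hMdvd : ∀ k, M ^ k = 0 ↔ π ^ e ∣ π ^ k := by
    intro k
    rw [hM, ← map_pow, hann]
    refine Associated.dvd_iff_dvd_right (Associated.pow_pow ?_)
    refine (associated_unit_mul_left _ _ ?_).trans hassoc.symm
    exact (isUnit_iff_ne_zero.2 (fun h0 => by rw [h0, zero_mul] at hεε; exact zero_ne_one hεε)).map C
  have hMe : M ^ e = 0 := (hMdvd e).2 dvd_rfl
  have hMe1 : M ^ (e - 1) ≠ 0 := by
    rw [Ne, hMdvd, pow_dvd_pow_iff hπ.ne_zero hπ.not_isUnit]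
    omega
  have hHu : IsUnit H := (Module.End.isUnit_iff _).2 h.1.bijective
  have hNN : N * N = M * H := by
    refine LinearMap.ext fun x => ?_
    simp only [N, M, H, Module.End.mul_apply, LinearMap.sub_apply, LinearMap.add_apply,
      Module.End.one_apply, map_sub, LinearEquiv.coe_coe, LinearEquiv.symm_apply_apply,
      Module.End.ofNat_apply, two_nsmul]
    abel
  have hNH : Commute N H := (Commute.refl H).sub_left (Commute.one_left H)
  have hMH : Commute M H := by
    refine ((Commute.refl H).add_left ?_).sub_left (Commute.ofNat_left _ _)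
    refine LinearMap.ext fun x => ?_
    simp [H]
  have hN2 : ∀ k, N ^ (2 * k) = M ^ k * H ^ k := fun k => by
    rw [pow_mul, pow_two, hNN, hMH.mul_pow]
  have hN2e : N ^ (2 * e) = 0 := by rw [hN2, hMe, zero_mul]
  have hN2e1 : N ^ (2 * (e - 1)) ≠ 0 := by
    rw [hN2, Ne, (hHu.pow _).mul_left_eq_zero]
    exact hMe1
  have hNNH : ∀ j k, N ^ (j + 1) = 0 → N ^ j * H ^ k = N ^ j := by
    intro j k hj
    induction k with
    | zero => rw [pow_zero, mul_one]
    | succ k ih =>
      rw [pow_succ, ← mul_assoc, ih, show H = N + 1 by simp [N, H], mul_add, mul_one, ← pow_succ, hj,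
        zero_add]
  have hMadj : ∀ (k : ℕ) a b, B ((M ^ k) a) b = B a ((M ^ k) b) := by
    intro k a b
    rw [hM, ← map_pow]
    exact poly_sum_adj g _ a b
  have hMalt : ∀ (k : ℕ) a, B ((M ^ k) a) a = 0 := by
    intro k a
    rw [hM, ← map_pow]
    exact poly_sum_alt hA g _ a
  by_cases hodd : N ^ (2 * e - 1) = 0
  · refine res_of_unip (d := 2 * e - 1) hA hB g ih h ε hε hgh e 1 le_rfl (by omega) (by omega)
      (fun _ => rfl) hodd ?_ ?_
    · rw [show 2 * e - 1 - 1 = 2 * (e - 1) by omega]; exact hN2e1
    · intro p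
      have : N ^ (2 * e - 1 - 1) = M ^ (e - 1) := by
        rw [show 2 * e - 1 - 1 = 2 * (e - 1) by omega]
        apply (hHu.pow (e - 1)).mul_right_cancel
        rw [hNNH _ _ (by rw [show 2 * (e - 1) + 1 = 2 * e - 1 by omega]; exact hodd), hN2]
      rw [this]
      exact hMalt _ _
  · have heven : ε = 1 := by
      rcases hε with h1 | ⟨h1, h2⟩
      · exact h1
      exfalso
      apply hodd
      have e1 : M ^ (e - 1) * ((N + 2) * N) = 0 := by
        refine LinearMap.ext fun x => ?_
        have hx : ((N + 2) * N) x = h.1 (h.1 x) - x := by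
          simp only [N, Module.End.mul_apply, LinearMap.sub_apply, LinearMap.add_apply,
            Module.End.one_apply, map_sub, LinearEquiv.coe_coe, Module.End.ofNat_apply, two_nsmul]
          abel
        rw [Module.End.mul_apply, hx, LinearMap.zero_apply, hM, ← map_pow, mul_pow, ← C_pow, map_mul,
          aeval_C, Module.End.mul_apply, Module.algebraMap_end_apply, smul_eq_zero]
        right
        obtain ⟨a, ha⟩ := hassoc
        have hz : Pi (h.1 (h.1 x) - x) = 0 := by
          have := hskew (g.1 x)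
          rwa [g.1.symm_apply_apply, show g.1 (g.1 x) = h.1 (h.1 x) by
            rw [hgh, hgh, map_smul, smul_smul, hεε, one_smul]] at this
        rw [← ha, mul_pow, mul_comm, map_mul, Module.End.mul_apply, ← hPi, hz, map_zero]
      have hu : IsUnit (N + 2) := by
        refine IsNilpotent.isUnit_add_right_of_commute ⟨2 * e, hN2e⟩ ?_ (Commute.ofNat_right _ _)
        rw [show (2 : Module.End F V) = algebraMap F _ 2 from (map_ofNat _ 2).symm]
        exact (isUnit_iff_ne_zero.2 fun h0 => h2 (by linear_combination -h0)).map _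
      have e2 : M ^ (e - 1) * N = 0 := by
        rw [((Commute.refl N).add_left (Commute.ofNat_left _ _)).eq, ← mul_assoc] at e1
        exact hu.mul_left_eq_zero.1 e1
      rw [show 2 * e - 1 = 2 * (e - 1) + 1 by omega, pow_succ, hN2, mul_assoc, ← (hNH.pow_right _).eq,
        ← mul_assoc, e2, zero_mul]
    refine res_of_unip (d := 2 * e) hA hB g ih h ε hε hgh e 0 (by omega) (by omega) (by omega)
      (fun hne => absurd heven hne) hN2e hodd ?_
    intro p
    have e1 : N ^ (2 * e - 1) = M ^ (e - 1) * N := by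
      apply (hHu.pow (e - 1)).mul_right_cancel
      rw [hNNH _ _ (by rw [show 2 * e - 1 + 1 = 2 * e by omega]; exact hN2e), mul_assoc,
        (hNH.pow_right _).eq, ← mul_assoc, ← hN2, ← pow_succ]
      congr 1
      omega
    rw [e1, Module.End.mul_apply]
    show B ((M ^ (e - 1)) (h.1 p - p)) p = 0
    rw [map_sub, map_sub, LinearMap.sub_apply, hMalt, sub_zero, hMadj]
    subst heven
    rw [hhg, one_smul, hM, ← map_pow, mul_pow, C_1, one_pow, one_mul]
    obtain ⟨a, ha⟩ := hassoc
    rw [← ha, mul_pow]
    obtain ⟨c, -, hc⟩ := Polynomial.isUnit_iff.1 (a.isUnit.pow (e - 1))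
    rw [← hc, map_mul, aeval_C, ← hPi, Module.End.mul_apply, Module.algebraMap_end_apply,
      map_smul Pi, map_smul, hcase, smul_zero]

theorem res_all : ∀ (n : ℕ) (V : Type v) [AddCommGroup V] [Module F V] [FiniteDimensional F V]
    (B : BilinForm F V), B.IsAlt → B.Nondegenerate → finrank F V = n → ∀ g : Isom B, Res g := by
  intro n
  induction n using Nat.strong_induction_on with
  | _ n IH =>
    intro V _ _ _ B hA hB hn g
    rcases Nat.eq_zero_or_pos n with h0 | h0
    · refine Or.inl ⟨⊥, by simp [hn, h0], ?_, ?_, ?_⟩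
      all_goals simp
    have ih : ∀ (P : Submodule F V) (hg : ∀ x ∈ P, g.1 x ∈ P), (B.restrict P).Nondegenerate → P ≠ ⊤ →
        Res (resI g P hg) := fun P hg hP hne =>
      IH (finrank F P) (hn ▸ Submodule.finrank_lt hne) P _ (restrict_alt P hA) hP rfl _
    set K : Module.End F V := g.1.toLinearMap + g.1.symm.toLinearMap
    have : Nontrivial V := Module.nontrivial_of_finrank_pos (R := F) (hn ▸ h0)
    have hint : IsIntegral F K := Algebra.IsIntegral.isIntegral K
    obtain ⟨π, hπ, hπd⟩ := WfDvdMonoid.exists_irreducible_factor (minpoly.not_isUnit F K) (minpoly.ne_zero hint)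
    obtain ⟨e, b, hb, hμ⟩ := WfDvdMonoid.max_power_factor (minpoly.ne_zero hint) hπ
    have he : 1 ≤ e := by
      by_contra hcon
      rw [show e = 0 by omega, pow_zero, one_mul] at hμ
      exact hb (hμ ▸ hπd)
    by_cases hbu : IsUnit b
    · refine res_primary hA hB g ih π e hπ he fun p => ?_
      rw [← minpoly.dvd_iff, hμ]
      exact Associated.dvd_iff_dvd_left (associated_mul_unit_left _ _ hbu)
    · refine res_of_coprime hA hB g ih (π ^ e) b (IsCoprime.pow_left (hπ.coprime_iff_not_dvd.2 hb))
        (by rw [← hμ]; exact minpoly.aeval F K) ?_ ?_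
      · intro hz
        have := minpoly.dvd F K hz
        rw [hμ] at this
        exact hbu (isUnit_of_dvd_one ((mul_dvd_mul_iff_left (pow_ne_zero e hπ.ne_zero)).1
          (by rw [mul_one]; exact this)))
      · intro hz
        have := minpoly.dvd F K hz
        rw [hμ] at this
        have hb0 : b ≠ 0 := fun h => hb (h ▸ dvd_zero π)
        exact hπ.not_isUnit (isUnit_of_dvd_one ((dvd_pow_self π (by omega : e ≠ 0)).trans
          ((mul_dvd_mul_iff_right hb0).1 (by rw [one_mul]; exact this))))

end Cfsg.Agent.H69.OreSp
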