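import Mathlib.RingTheory.AdjoinRoot
import Mathlib.RingTheory.Nilpotent.Basic
import Mathlib.RingTheory.Polynomial.Basic

/-!
The ring `F[X] / (X ^ d)` with the involution `1 + x ↦ (1 + x)⁻¹`.
-/

set_option autoImplicit false
set_option linter.unusedSectionVars false

namespace Cfsg.Agent.H69.OreSp

open Polynomial

variable (F : Type*) [Field F] (d : ℕ)

/-- `F[X] / (X ^ d)`. -/
abbrev Tr := AdjoinRoot (X ^ d : F[X])

/-- The class of `X`. -/
noncomputable abbrev xx : Tr F d := AdjoinRoot.root (X ^ d : F[X])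

variable {F d}

theorem xx_pow : xx F d ^ d = 0 := by
  have := AdjoinRoot.mk_self (f := (X ^ d : F[X]))
  rwa [map_pow, AdjoinRoot.mk_X] at this

theorem xx_eq_mk : xx F d = AdjoinRoot.mk (X ^ d : F[X]) X := AdjoinRoot.mk_X.symm

theorem xx_pow_of_le {i : ℕ} (h : d ≤ i) : xx F d ^ i = 0 := pow_eq_zero_of_le h xx_pow

theorem isNilpotent_xx : IsNilpotent (xx F d) := ⟨d, xx_pow⟩

theorem xx_pow_ne {i : ℕ} (h : i < d) : xx F d ^ i ≠ 0 := by
  intro h0
  rw [xx_eq_mk, ← map_pow, AdjoinRoot.mk_eq_zero] at h0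
  have := natDegree_le_of_dvd h0 (pow_ne_zero _ X_ne_zero)
  rw [natDegree_X_pow, natDegree_X_pow] at this
  omega

/-- `x` has the socle as annihilator. -/
theorem ann_xx (hd : 1 ≤ d) {a : Tr F d} (h : xx F d * a = 0) :
    ∃ c : F, a = c • xx F d ^ (d - 1) := by
  induction a using AdjoinRoot.induction_on with
  | ih p =>
    rw [xx_eq_mk, ← map_mul, AdjoinRoot.mk_eq_zero, show d = (d - 1) + 1 by omega,
      pow_succ', mul_dvd_mul_iff_left X_ne_zero] at h
    obtain ⟨q, rfl⟩ := h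
    refine ⟨q.coeff 0, ?_⟩
    obtain ⟨r, hr⟩ : X ∣ q - C (q.coeff 0) := by simp [X_dvd_iff]
    rw [xx_eq_mk, ← map_pow, Algebra.smul_def, AdjoinRoot.algebraMap_eq,
      ← AdjoinRoot.mk_C, ← map_mul, AdjoinRoot.mk_eq_mk]
    refine ⟨r, ?_⟩
    rw [show (X : F[X]) ^ d = X ^ (d - 1) * X by rw [← pow_succ, show d - 1 + 1 = d by omega],
      mul_assoc, ← hr]
    ring

theorem mul_soc (hd : 1 ≤ d) (a : Tr F d) : ∃ c : F, a * xx F d ^ (d - 1) = c • xx F d ^ (d - 1) :=
  ann_xx hd (by rw [mul_left_comm, ← pow_succ', show d - 1 + 1 = d by omega, xx_pow, mul_zero])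

/-- Two elements, not both zero, have a common multiplier into the socle. -/
theorem exists_socle (hd : 1 ≤ d) {a b : Tr F d} (h : ¬(a = 0 ∧ b = 0)) :
    ∃ (t : Tr F d) (α β : F), t * a = α • xx F d ^ (d - 1) ∧ t * b = β • xx F d ^ (d - 1) ∧
      ¬(α = 0 ∧ β = 0) := by
  classical
  have hex : ∃ k, xx F d ^ k * a = 0 ∧ xx F d ^ k * b = 0 := ⟨d, by simp [xx_pow]⟩
  obtain ⟨k, hk⟩ : ∃ k, Nat.find hex = k + 1 :=
    Nat.exists_eq_succ_of_ne_zero fun h0 => h (by simpa [h0] using Nat.find_spec hex)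
  have hs := Nat.find_spec hex
  rw [hk, pow_succ', mul_assoc, mul_assoc] at hs
  obtain ⟨α, hα⟩ := ann_xx hd hs.1
  obtain ⟨β, hβ⟩ := ann_xx hd hs.2
  refine ⟨xx F d ^ k, α, β, hα, hβ, fun h0 => ?_⟩
  exact Nat.find_min hex (show k < Nat.find hex by omega) (by rw [hα, hβ, h0.1, h0.2]; simp)

theorem exists_socle_one (hd : 1 ≤ d) {a : Tr F d} (h : a ≠ 0) :
    ∃ t : Tr F d, t * a = xx F d ^ (d - 1) := by
  obtain ⟨t, α, β, hα, hβ, hne⟩ := exists_socle hd (b := 0) (fun hh : a = 0 ∧ _ => h hh.1)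
  have hα0 : α ≠ 0 := by
    intro h0
    rw [mul_zero, eq_comm, smul_eq_zero] at hβ
    exact hne ⟨h0, hβ.resolve_right (xx_pow_ne (by omega))⟩
  exact ⟨α⁻¹ • t, by rw [smul_mul_assoc, hα, smul_smul, inv_mul_cancel₀ hα0, one_smul]⟩

theorem pow_mul_unit_inj {a b : ℕ} {w w' : Tr F d} (hw : IsUnit w) (hw' : IsUnit w')
    (h : xx F d ^ a * w = xx F d ^ b * w') (ha : a < d) : a = b := by
  by_contra hne
  rcases Nat.lt_or_gt_of_ne hne with hab | hab
  · refine xx_pow_ne (show d - 1 < d by omega) (hw.mul_left_eq_zero.1 ?_)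
    rw [show d - 1 = (d - 1 - a) + a by omega, pow_add, mul_assoc, h, ← mul_assoc, ← pow_add,
      xx_pow_of_le (by omega), zero_mul]
  · refine xx_pow_ne (show d - 1 < d by omega) (hw'.mul_left_eq_zero.1 ?_)
    rw [show d - 1 = (d - 1 - b) + b by omega, pow_add, mul_assoc, ← h, ← mul_assoc, ← pow_add,
      xx_pow_of_le (by omega), zero_mul]

/-- `1 + x`. -/
noncomputable def gam : (Tr F d)ˣ := (isNilpotent_xx (F := F) (d := d)).isUnit_one_add.unit

theorem gam_val : (gam (F := F) (d := d) : Tr F d) = 1 + xx F d := IsUnit.unit_spec _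

/-- The image of `x` under the involution. -/
noncomputable def xb : Tr F d := ((gam (F := F) (d := d))⁻¹).1 - 1

theorem xb_eq : (xb : Tr F d) = -(xx F d * ((gam (F := F) (d := d))⁻¹).1) := by
  have := (gam (F := F) (d := d)).mul_inv
  rw [gam_val, add_mul, one_mul] at this
  rw [xb]
  linear_combination this

theorem xb_pow : (xb : Tr F d) ^ d = 0 := by
  rw [xb_eq, neg_pow, mul_pow, xx_pow, zero_mul, mul_zero]

/-- The involution. -/
noncomputable def sig : Tr F d →ₐ[F] Tr F d :=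
  AdjoinRoot.liftAlgHom _ (Algebra.ofId F _) xb (by simp [xb_pow])

theorem sig_xx : sig (xx F d) = xb := by
  simp [sig]

theorem sig_gam : sig (gam (F := F) (d := d) : Tr F d) = ((gam (F := F) (d := d))⁻¹).1 := by
  rw [gam_val, map_add, map_one, sig_xx, xb, add_sub_cancel]

theorem sig_gam_inv : sig ((gam (F := F) (d := d))⁻¹).1 = (gam (F := F) (d := d) : Tr F d) := by
  have h : sig ((gam (F := F) (d := d))⁻¹).1 * sig (gam (F := F) (d := d) : Tr F d) = 1 := by
    rw [← map_mul, Units.inv_mul, map_one]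
  rw [sig_gam] at h
  exact (Units.mul_inv_eq_one (u := gam)).1 h

theorem sig_sig (a : Tr F d) : sig (sig a) = a := by
  have : (sig (F := F) (d := d)).comp sig = AlgHom.id F _ := by
    refine AdjoinRoot.algHom_ext ?_
    rw [AlgHom.comp_apply, sig_xx, xb, map_sub, map_one, sig_gam_inv, gam_val]
    simp
  exact DFunLike.congr_fun this a

/-- The fixed element `x + x̄`. -/
noncomputable def mm : Tr F d := xx F d + xb

theorem sig_mm : sig (mm : Tr F d) = mm := by
  rw [mm, map_add, sig_xx, ← sig_xx, sig_sig, add_comm]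

theorem mm_eq : (mm : Tr F d) = xx F d ^ 2 * ((gam (F := F) (d := d))⁻¹).1 := by
  have := (gam (F := F) (d := d)).mul_inv
  rw [gam_val] at this
  rw [mm, xb_eq]
  linear_combination (-(xx F d)) * this

theorem xx_mul_xb : xx F d * (xb : Tr F d) = -mm := by
  rw [mm_eq, xb_eq]
  ring

theorem sig_aeval (p : F[X]) : sig (aeval (mm : Tr F d) p) = aeval (mm : Tr F d) p := by
  rw [← aeval_algHom_apply, sig_mm]

/-- Fixed elements are even. -/
theorem aeval_mm_form (p : F[X]) (hp : p ≠ 0) :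
    ∃ (i : ℕ) (w : Tr F d), IsUnit w ∧ aeval (mm : Tr F d) p = xx F d ^ (2 * i) * w ∧ i ≤ p.natDegree := by
  obtain ⟨i, q, hq, rfl⟩ := WfDvdMonoid.max_power_factor hp irreducible_X
  have hq0 : q ≠ 0 := fun h0 => hq (by simp [h0])
  have hu : IsUnit (aeval (mm : Tr F d) q) := by
    obtain ⟨r, hr⟩ : X ∣ q - C (q.coeff 0) := by simp [X_dvd_iff]
    rw [show q = C (q.coeff 0) + X * r by rw [← hr]; ring, map_add, map_mul, aeval_C, aeval_X]
    have hn : IsNilpotent ((mm : Tr F d) * aeval (mm : Tr F d) r) := by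
      refine ⟨d, ?_⟩
      rw [mm_eq, mul_pow, mul_pow, ← pow_mul, xx_pow_of_le (by omega), zero_mul, zero_mul]
    refine hn.isUnit_add_left_of_commute ?_ (Commute.all _ _)
    exact ((isUnit_iff_ne_zero.2 fun h0 => hq (X_dvd_iff.2 h0)).map (algebraMap F _))
  refine ⟨i, ((gam (F := F) (d := d))⁻¹).1 ^ i * aeval (mm : Tr F d) q,
    ((Units.isUnit _).pow i).mul hu, ?_, ?_⟩
  · rw [map_mul, map_pow, aeval_X, mm_eq, mul_pow, pow_mul, mul_assoc]
  · rw [natDegree_mul (pow_ne_zero _ X_ne_zero) hq0, natDegree_X_pow]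
    exact Nat.le_add_right _ _

theorem soc_mul_gam_inv (hd : 1 ≤ d) :
    xx F d ^ (d - 1) * ((gam (F := F) (d := d))⁻¹).1 = xx F d ^ (d - 1) := by
  rw [Units.mul_inv_eq_iff_eq_mul, gam_val, mul_add, mul_one, ← pow_succ,
    show d - 1 + 1 = d by omega, xx_pow, add_zero]

theorem soc_mul_gam_inv_pow (hd : 1 ≤ d) (k : ℕ) :
    xx F d ^ (d - 1) * ((gam (F := F) (d := d))⁻¹).1 ^ k = xx F d ^ (d - 1) := by
  induction k with
  | zero => rw [pow_zero, mul_one]
  | succ k ih => rw [pow_succ, ← mul_assoc, ih, soc_mul_gam_inv hd]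

theorem mm_pow_soc (hd : 1 ≤ d) (k : ℕ) (h : 2 * k = d - 1) :
    (mm : Tr F d) ^ k = xx F d ^ (d - 1) := by
  rw [mm_eq, mul_pow, ← pow_mul, h, soc_mul_gam_inv_pow hd]

theorem sig_soc (hd : 1 ≤ d) (hodd : Odd d) : sig (xx F d ^ (d - 1)) = xx F d ^ (d - 1) := by
  obtain ⟨k, rfl⟩ := hodd
  rw [← mm_pow_soc hd k (by omega), map_pow, sig_mm]

instance finite_tr : Module.Finite F (Tr F d) :=
  (AdjoinRoot.powerBasis (pow_ne_zero d (X_ne_zero (R := F)))).finite

theorem finrank_tr : Module.finrank F (Tr F d) = d := by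
  rw [(AdjoinRoot.powerBasis (pow_ne_zero d (X_ne_zero (R := F)))).finrank,
    AdjoinRoot.powerBasis_dim, natDegree_X_pow]

end Cfsg.Agent.H69.OreSp
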