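import Cfsg.Agent.H69.OreSp.UnipBad

/-!
The unipotent case of the splitting.
-/

set_option autoImplicit false
set_option linter.unusedSectionVars false

namespace Cfsg.Agent.H69.OreSp

open Cfsg.Agent.Symplectic Module Polynomial
open LinearMap (BilinForm)

variable {F : Type*} [Field F] {d : ℕ}

theorem parity_zero (r : ℕ) (p q : F[X])
    (h : xx F d ^ (r + 1) * aeval mm p = xx F d ^ r * aeval mm q) :
    xx F d ^ (r + 1) * aeval (mm : Tr F d) p = 0 := by
  rcases eq_or_ne p 0 with rfl | hp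
  · simp
  rcases eq_or_ne q 0 with rfl | hq
  · rw [h]; simp
  obtain ⟨i, w, hw, hpw, -⟩ := aeval_mm_form (d := d) p hp
  obtain ⟨j, w', hw', hqw, -⟩ := aeval_mm_form (d := d) q hq
  rw [hpw, hqw, ← mul_assoc, ← mul_assoc, ← pow_add, ← pow_add] at h
  rw [hpw, ← mul_assoc, ← pow_add]
  by_cases hlt : r + 1 + 2 * i < d
  · have := pow_mul_unit_inj hw hw' h hlt
    omega
  · rw [xx_pow_of_le (by omega), zero_mul]

theorem xb_pow_aeval_ne_soc {e r : ℕ} (hdr : d + r = 2 * e) (hd : 1 ≤ d) (p : F[X]) :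
    (xb : Tr F d) ^ r * aeval mm p ≠ xx F d ^ (d - 1) := by
  intro h
  rcases eq_or_ne p 0 with rfl | hp
  · rw [map_zero, mul_zero] at h
    exact xx_pow_ne (show d - 1 < d by omega) h.symm
  obtain ⟨i, w, hw, hpw, -⟩ := aeval_mm_form (d := d) p hp
  rw [hpw, xb_eq, neg_pow, mul_pow] at h
  have h' : xx F d ^ (d - 1) * 1 =
      xx F d ^ (r + 2 * i) * ((-1) ^ r * ((gam (F := F) (d := d))⁻¹).1 ^ r * w) := by
    rw [← h, mul_one, pow_add]; ring
  have := pow_mul_unit_inj isUnit_one
    (((isUnit_one.neg.pow r).mul ((Units.isUnit _).pow r)).mul hw) h' (by omega)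
  omega

theorem sig_gen (p q : F[X]) (r k : ℕ) :
    sig (aeval mm q * xx F d ^ r * xx F d ^ k) * (aeval mm p * xx F d ^ k) =
      (xb : Tr F d) ^ r * aeval mm (p * q * (-X) ^ k) := by
  simp only [map_mul, map_pow, map_neg, sig_aeval, sig_xx, aeval_X]
  rw [show -(mm : Tr F d) = xx F d * xb from xx_mul_xb.symm]
  ring

variable [Fintype F] {V : Type*} [AddCommGroup V] [Module F V] [FiniteDimensional F V]
  {B : BilinForm F V}

/-- Case B. -/
theorem res_of_unip (hA : B.IsAlt) (hB : B.Nondegenerate) (g : Isom B)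
    (ih : ∀ (P : Submodule F V) (hg : ∀ x ∈ P, g.1 x ∈ P), (B.restrict P).Nondegenerate → P ≠ ⊤ →
      Res (resI g P hg))
    (h : Isom B) (ε : F) (hε : ε = 1 ∨ (ε = -1 ∧ (-1 : F) ≠ 1)) (hgh : ∀ x, g.1 x = ε • h.1 x)
    (e r : ℕ) (hr : r ≤ 1) (hdr : d + r = 2 * e) (hd : 1 ≤ d) (hbr : ε ≠ 1 → r = 1)
    (hN : (h.1.toLinearMap - 1 : Module.End F V) ^ d = 0)
    (hNne : (h.1.toLinearMap - 1 : Module.End F V) ^ (d - 1) ≠ 0)
    (hso : ∀ p, B (((h.1.toLinearMap - 1 : Module.End F V) ^ (d - 1)) p) p = 0) : Res g := by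
  set ψ := psi h hN
  set S₀ := xx F d ^ (d - 1)
  have hψS : ψ S₀ = (h.1.toLinearMap - 1 : Module.End F V) ^ (d - 1) := by
    rw [map_pow, psi_xx]
  have hso' : ∀ p, B (ψ S₀ p) p = 0 := by rw [hψS]; exact hso
  obtain ⟨u, hu⟩ : ∃ u, ψ S₀ u ≠ 0 := by
    by_contra hcon
    push Not at hcon
    exact hNne (hψS ▸ LinearMap.ext hcon)
  have hu_inj : ∀ a, ψ a u = 0 → a = 0 := by
    intro a ha
    by_contra hne
    obtain ⟨t, ht⟩ := exists_socle_one hd hne
    apply hu
    show ψ (xx F d ^ (d - 1)) u = 0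
    rw [← ht, map_mul, Module.End.mul_apply, ha, map_zero]
  -- the partner
  let S : Submodule F V := LinearMap.range
    (((LinearMap.applyₗ u).comp ψ.toLinearMap).comp
      ((LinearMap.mulLeft F ((xb : Tr F d) ^ r)).comp (aeval (R := F) (mm : Tr F d)).toLinearMap))
  have huS : ψ S₀ u ∉ S := by
    rintro ⟨p, hp⟩
    refine xb_pow_aeval_ne_soc hdr hd p (sub_eq_zero.1 (hu_inj _ ?_))
    rw [map_sub, LinearMap.sub_apply, sub_eq_zero]
    exact hp
  obtain ⟨φ, hφu, hφS⟩ := Submodule.exists_dual_map_eq_bot_of_notMem huS inferInstance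
  set v := (B.toDual hB).symm (-φ)
  have hv : ∀ x, B x v = φ x := by
    intro x
    rw [alt_swap hA x v, BilinForm.apply_toDual_symm_apply, LinearMap.neg_apply, neg_neg]
  have huv : B (ψ S₀ u) v ≠ 0 := by rw [hv]; exact hφu
  have hS0 : ∀ p : F[X], B (ψ ((xb : Tr F d) ^ r * aeval mm p) u) v = 0 := by
    intro p
    rw [hv]
    have : φ (ψ ((xb : Tr F d) ^ r * aeval mm p) u) ∈ S.map φ := ⟨_, ⟨p, rfl⟩, rfl⟩
    rwa [hφS, Submodule.mem_bot] at this
  -- the summand
  let Φ : (Tr F d × Tr F d) →ₗ[F] V :=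
    ((LinearMap.applyₗ u).comp ψ.toLinearMap).coprod ((LinearMap.applyₗ v).comp ψ.toLinearMap)
  have hΦ : ∀ z, Φ z = ψ z.1 u + ψ z.2 v := fun z => rfl
  have hΦinj : Function.Injective Φ := psi_pair_injective h hN hd hA hso' huv
  set U := LinearMap.range Φ
  have hUh : ∀ x ∈ U, h.1 x ∈ U := by
    rintro _ ⟨z, rfl⟩
    refine ⟨((gam (F := F) (d := d) : Tr F d) * z.1, (gam (F := F) (d := d) : Tr F d) * z.2), ?_⟩
    rw [hΦ, hΦ, map_mul, map_mul, Module.End.mul_apply, Module.End.mul_apply, psi_gam]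
    exact (map_add h.1 _ _).symm
  have hUg : ∀ x ∈ U, g.1 x ∈ U := fun x hx => by
    rw [hgh]; exact U.smul_mem _ (hUh x hx)
  have hUnd : (B.restrict U).Nondegenerate := by
    have k1 : ∀ x : U, (∀ y : U, B (x : V) y = 0) → x = 0 := by
      rintro ⟨_, z, rfl⟩ hx
      obtain ⟨h1, h2⟩ := psi_indep h hN hd hA hso' huv (a := z.1) (b := z.2)
        fun a' b' => hx ⟨_, (a', b'), rfl⟩
      refine Subtype.ext ?_
      show Φ z = 0
      rw [hΦ, h1, h2]
      simp
    exact ⟨k1, fun x hx => k1 x fun y => by rw [alt_swap hA]; simpa using hx y⟩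
  have hUdim : finrank F U = 2 * d := by
    rw [LinearMap.finrank_range_of_inj hΦinj, Module.finrank_prod, finrank_tr, two_mul]
  -- the Lagrangian
  let L : (degreeLT F e × degreeLT F (e - r)) →ₗ[F] Tr F d × Tr F d :=
    LinearMap.prodMap ((aeval (R := F) (mm : Tr F d)).toLinearMap.comp (Submodule.subtype _))
      ((LinearMap.mulRight F (xx F d ^ r)).comp
        ((aeval (R := F) (mm : Tr F d)).toLinearMap.comp (Submodule.subtype _)))
  have hL : ∀ z, L z = (aeval mm z.1.1, aeval mm z.2.1 * xx F d ^ r) := fun z => rfl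
  have hdeg : ∀ (k : ℕ) (p : F[X]), p ∈ degreeLT F k → p ≠ 0 → p.natDegree < k := fun k p hp hp0 => by
    rw [mem_degreeLT] at hp
    exact (natDegree_lt_iff_degree_lt hp0).2 hp
  have hLinj : Function.Injective L := by
    rw [← LinearMap.ker_eq_bot, LinearMap.ker_eq_bot']
    intro z hz
    rw [hL, Prod.mk_eq_zero] at hz
    have h1 : z.1 = 0 := by
      by_contra hne
      have hp : z.1.1 ≠ 0 := fun h0 => hne (Subtype.ext h0)
      obtain ⟨i, w, hw, hpw, hi⟩ := aeval_mm_form (d := d) _ hp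
      have := hdeg _ _ z.1.2 hp
      rw [hpw] at hz
      exact xx_pow_ne (show 2 * i < d by omega) (hw.mul_left_eq_zero.1 hz.1)
    have h2 : z.2 = 0 := by
      by_contra hne
      have hp : z.2.1 ≠ 0 := fun h0 => hne (Subtype.ext h0)
      obtain ⟨i, w, hw, hpw, hi⟩ := aeval_mm_form (d := d) _ hp
      have := hdeg _ _ z.2.2 hp
      rw [hpw, mul_right_comm, ← pow_add] at hz
      exact xx_pow_ne (show 2 * i + r < d by omega) (hw.mul_left_eq_zero.1 hz.2)
    exact Prod.ext h1 h2
  have hEdim : finrank F (LinearMap.range (Φ.comp L)) = d := by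
    rw [LinearMap.finrank_range_of_inj (f := Φ.comp L) (hΦinj.comp hLinj), Module.finrank_prod,
      (degreeLTEquiv F e).finrank_eq, (degreeLTEquiv F (e - r)).finrank_eq, finrank_fin_fun,
      finrank_fin_fun]
    omega
  -- isotropy of `x ^ k E`, `k = 0, 1`
  have hiso : ∀ (k : ℕ) z z', B (ψ (xx F d ^ k) (Φ (L z))) (ψ (xx F d ^ k) (Φ (L z'))) = 0 := by
    intro k z z'
    have ez : ∀ w, ψ (xx F d ^ k) (Φ (L w)) = ψ (aeval mm w.1.1 * xx F d ^ k) u +
        ψ (aeval mm w.2.1 * xx F d ^ r * xx F d ^ k) v := by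
      intro w
      rw [hΦ, hL, map_add, ← Module.End.mul_apply, ← Module.End.mul_apply, ← map_mul, ← map_mul,
        mul_comm (xx F d ^ k), mul_comm (xx F d ^ k)]
    have self : ∀ (p q : F[X]) (j : ℕ) (w : V),
        B (ψ (aeval mm p * xx F d ^ j) w) (ψ (aeval mm q * xx F d ^ j) w) = 0 := by
      intro p q j w
      rw [map_mul, map_mul, Module.End.mul_apply, Module.End.mul_apply, psi_two, sig_aeval, ← map_mul]
      exact psi_fix_alt h hN hA _ _
    have cross : ∀ p q : F[X],
        B (ψ (aeval mm p * xx F d ^ k) u) (ψ (aeval mm q * xx F d ^ r * xx F d ^ k) v) = 0 := by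
      intro p q
      rw [psi_two, sig_gen]
      exact hS0 _
    rw [ez, ez]
    simp only [map_add, LinearMap.add_apply]
    rw [self, cross, alt_swap hA _ (ψ (aeval mm z'.1.1 * xx F d ^ k) u), cross,
      mul_assoc (aeval mm z.2.1), mul_assoc (aeval mm z'.2.1), ← pow_add, self]
    simp
  -- fixed points
  have hfix : ∀ z z', h.1 (Φ (L z)) = Φ (L z') → h.1 (Φ (L z)) = Φ (L z) := by
    intro z z' hzz
    have e1 : Φ (xx F d * (L z).1, xx F d * (L z).2) = Φ (L (z' - z)) := by
      rw [map_sub, map_sub, ← hzz, hΦ, map_mul, map_mul, Module.End.mul_apply, Module.End.mul_apply,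
        ← map_add, ← hΦ]
      exact psi_xx_apply h hN _
    have e2 := hΦinj e1
    rw [hL (z' - z), hL z, Prod.mk.injEq] at e2
    have a1 : xx F d ^ (0 + 1) * aeval (mm : Tr F d) z.1.1 = 0 :=
      parity_zero 0 _ (z' - z).1.1 (by rw [zero_add, pow_one, pow_zero, one_mul]; exact e2.1)
    have a2 : xx F d ^ (r + 1) * aeval (mm : Tr F d) z.2.1 = 0 :=
      parity_zero r _ (z' - z).2.1 (by
        rw [mul_comm (xx F d ^ r), ← e2.2, pow_succ']; ring)
    have e3 : h.1 (Φ (L z)) - Φ (L z) = 0 := by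
      rw [← psi_xx_apply h hN, hΦ, hL, map_add, ← Module.End.mul_apply, ← Module.End.mul_apply,
        ← map_mul, ← map_mul]
      rw [zero_add, pow_one] at a1
      rw [a1, show xx F d * (aeval mm z.2.1 * xx F d ^ r) = xx F d ^ (r + 1) * aeval mm z.2.1 by ring, a2]
      simp
    exact sub_eq_zero.1 e3
  have hEU : LinearMap.range (Φ.comp L) ≤ U := by
    rintro _ ⟨z, rfl⟩
    exact ⟨L z, rfl⟩
  have hgood : GoodI (resI h U hUh) := by
    refine ⟨(LinearMap.range (Φ.comp L)).comap U.subtype, ?_, ?_, ?_, ?_⟩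
    · rw [LinearEquiv.finrank_eq (Submodule.comapSubtypeEquivOfLe hEU), hEdim, hUdim]
    all_goals
      intro x hx
      obtain ⟨z, hz⟩ := hx
      rw [LinearMap.comp_apply, Submodule.subtype_apply] at hz
    · intro y hy
      obtain ⟨z', hz'⟩ := hy
      rw [LinearMap.comp_apply, Submodule.subtype_apply] at hz'
      show B (x : V) (y : V) = 0
      rw [← hz, ← hz']
      simpa using hiso 0 z z'
    · intro y hy
      obtain ⟨z', hz'⟩ := hy
      rw [LinearMap.comp_apply, Submodule.subtype_apply] at hz'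
      show B (h.1 x - (x : V)) (h.1 y - (y : V)) = 0
      rw [← hz, ← hz', ← psi_xx_apply h hN, ← psi_xx_apply h hN]
      simpa using hiso 1 z z'
    · intro hgx
      obtain ⟨z', hz'⟩ := hgx
      rw [LinearMap.comp_apply, Submodule.subtype_apply, resI_apply, ← hz] at hz'
      refine Subtype.ext ?_
      rw [resI_apply, ← hz]
      exact hfix z z' hz'.symm
  have hU0 : U ≠ ⊥ := by
    intro h0
    rw [h0, finrank_bot] at hUdim
    omega
  rcases hε with rfl | ⟨rfl, h2⟩
  · have : g = h := Subtype.ext (LinearEquiv.ext fun x => by rw [hgh, one_smul])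
    subst this
    exact res_of_good_part hA hB g ih hUnd hUg hU0 hgood
  · have hr1 := hbr h2
    have htwo : (2 : F) ≠ 0 := fun h0 => h2 (by linear_combination -h0)
    refine Or.inr ⟨U, hUg, hUnd, h2, d, ?_, hUdim, ?_, ?_, ?_⟩
    · exact ⟨e - 1, by omega⟩
    · have e1 : resI g U hUg = negI (resI h U hUh) := by
        refine Subtype.ext (LinearEquiv.ext fun x => Subtype.ext ?_)
        rw [resI_apply, negI_apply, Submodule.coe_neg, resI_apply, hgh, neg_smul, one_smul]
      have hNU : ((resI h U hUh).1.toLinearMap - 1 : Module.End F U) ^ d = 0 := by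
        have key : ∀ (k : ℕ) (x : U), ((((resI h U hUh).1.toLinearMap - 1 : Module.End F U) ^ k) x : V) =
            (((h.1.toLinearMap - 1 : Module.End F V) ^ k) (x : V)) := by
          intro k
          induction k with
          | zero => intro x; rfl
          | succ k ih => intro x; rw [pow_succ, pow_succ, Module.End.mul_apply, Module.End.mul_apply, ih]; rfl
        exact LinearMap.ext fun x => Subtype.ext (by rw [key, hN]; rfl)
      have hu' : u ∈ U := ⟨(1, 0), by simp [hΦ]⟩
      have hv' : v ∈ U := ⟨(0, 1), by simp [hΦ]⟩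
      rw [e1]
      refine isCom_neg_unip (restrict_alt U hA) (resI h U hUh) hNU hUnd htwo hd ⟨e - 1, by omega⟩
        hUdim ⟨u, hu'⟩ ⟨v, hv'⟩ ?_
      have key : ∀ (a : Tr F d) (x : U), ((psi (resI h U hUh) hNU a x : U) : V) = ψ a (x : V) := by
        intro a
        induction a using AdjoinRoot.induction_on with
        | ih P =>
          induction P using Polynomial.induction_on with
          | C c => intro x; rw [psi_mk, psi_mk, aeval_C, aeval_C]; rfl
          | add P Q hP hQ => intro x; simp only [map_add, LinearMap.add_apply, Submodule.coe_add, hP, hQ]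
          | monomial n c ih =>
            intro x
            rw [pow_succ, ← mul_assoc, map_mul _ _ X, map_mul (psi (resI h U hUh) hNU), map_mul ψ,
              Module.End.mul_apply, Module.End.mul_apply, ih, ← xx_eq_mk, psi_xx_apply, psi_xx_apply]
            rfl
      show B ((psi (resI h U hUh) hNU S₀ ⟨u, hu'⟩ : U) : V) v ≠ 0
      rw [key]
      exact huv
    · have e1 : negI (resI g U hUg) = resI h U hUh := by
        refine Subtype.ext (LinearEquiv.ext fun x => Subtype.ext ?_)
        rw [negI_apply, Submodule.coe_neg, resI_apply, resI_apply, hgh, neg_smul, one_smul, neg_neg]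
      rw [e1]
      exact hgood
    · intro hd1 x
      subst hd1
      refine Subtype.ext ?_
      have := LinearMap.congr_fun hN (x : V)
      rw [pow_one, LinearMap.sub_apply, LinearMap.zero_apply, sub_eq_zero] at this
      rw [resI_apply, Submodule.coe_neg, hgh]
      simpa using this

end Cfsg.Agent.H69.OreSp
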