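import Cfsg.Agent.H69.OreSp.UnipBase
import Mathlib.FieldTheory.Finite.Basic
import Mathlib.LinearAlgebra.Dual.Lemmas

/-!
Minus a regular unipotent pair `W(d)`, `d` odd, is a commutator.
-/

set_option autoImplicit false
set_option linter.unusedSectionVars false

namespace Cfsg.Agent.H69.OreSp

open Cfsg.Agent.Symplectic Module Polynomial
open LinearMap (BilinForm)

variable {F : Type*} [Field F] {d : ℕ}

/-- Skew elements. -/
noncomputable def skew : Submodule F (Tr F d) :=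
  LinearMap.ker ((sig (F := F) (d := d)).toLinearMap + LinearMap.id)

theorem mem_skew {a : Tr F d} : a ∈ (skew : Submodule F (Tr F d)) ↔ sig a = -a := by
  rw [skew, LinearMap.mem_ker, LinearMap.add_apply, AlgHom.toLinearMap_apply, LinearMap.id_apply,
    add_eq_zero_iff_eq_neg]

theorem sub_sig_mem_skew (a : Tr F d) : a - sig a ∈ (skew : Submodule F (Tr F d)) := by
  rw [mem_skew, map_sub, sig_sig, neg_sub]

theorem skew_mul_soc (h2 : (2 : F) ≠ 0) (hd : 1 ≤ d) (hodd : Odd d) {a : Tr F d}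
    (ha : a ∈ (skew : Submodule F (Tr F d))) : a * xx F d ^ (d - 1) = 0 := by
  obtain ⟨c, hc⟩ := mul_soc hd a
  have := congrArg sig hc
  rw [map_mul, map_smul, sig_soc hd hodd, mem_skew.1 ha, neg_mul, hc, ← neg_smul] at this
  have := smul_left_injective F (xx_pow_ne (F := F) (show d - 1 < d by omega)) this
  have hc0 : c = 0 := (mul_eq_zero.1 (show 2 * c = 0 by linear_combination -this)).resolve_left h2
  rw [hc, hc0, zero_smul]

theorem exists_skew_socle (h2 : (2 : F) ≠ 0) (hd : 1 ≤ d) (hodd : Odd d) {b : Tr F d}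
    (hb : b ∈ (skew : Submodule F (Tr F d))) (h0 : b ≠ 0) :
    ∃ a ∈ (skew : Submodule F (Tr F d)), a * b = xx F d ^ (d - 1) := by
  obtain ⟨t, ht⟩ := exists_socle_one hd h0
  refine ⟨(2 : F)⁻¹ • (t - sig t), Submodule.smul_mem _ _ (sub_sig_mem_skew t), ?_⟩
  have e : sig t * b = -xx F d ^ (d - 1) := by
    have := congrArg sig ht
    rw [map_mul, sig_soc hd hodd, mem_skew.1 hb, mul_neg] at this
    rw [← this, neg_neg]
  rw [smul_mul_assoc, sub_mul, ht, e, sub_neg_eq_add, ← two_smul F (xx F d ^ (d - 1)), smul_smul,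
    inv_mul_cancel₀ h2, one_smul]

variable [Fintype F] {V : Type*} [AddCommGroup V] [Module F V] [FiniteDimensional F V]
  {B : BilinForm F V} (hA : B.IsAlt) (h : Isom B)
  (hN : (h.1.toLinearMap - 1 : Module.End F V) ^ d = 0)

include hA in
theorem psi_sym_alt (h2 : (2 : F) ≠ 0) {c : Tr F d} (hc : sig c = c) (w : V) :
    B (psi h hN c w) w = 0 := by
  have := psi_adj h hN c w w
  rw [hc, alt_swap hA (psi h hN c w) w] at this
  rw [alt_swap hA (psi h hN c w) w]
  exact neg_eq_zero.2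
    ((mul_eq_zero.1 (show 2 * B w (psi h hN c w) = 0 by linear_combination -this)).resolve_left h2)

include hA in
theorem iso_of_skew (h2 : (2 : F) ≠ 0) (w : V)
    (hw : ∀ a ∈ (skew : Submodule F (Tr F d)), B (psi h hN a w) w = 0) (a : Tr F d) :
    B (psi h hN a w) w = 0 := by
  have hs := psi_sym_alt hA h hN h2 (c := a + sig a) (by rw [map_add, sig_sig, add_comm]) w
  have hk := hw _ (sub_sig_mem_skew a)
  simp only [map_add, map_sub, LinearMap.add_apply, LinearMap.sub_apply] at hs hk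
  exact (mul_eq_zero.1 (show 2 * B (psi h hN a w) w = 0 by linear_combination hs + hk)).resolve_left h2

include hA in
/-- A free isotropic generator. -/
theorem exists_iso_gen (h2 : (2 : F) ≠ 0) (hd : 1 ≤ d) (hodd : Odd d) (u v : V)
    (huv : B (psi h hN (xx F d ^ (d - 1)) u) v ≠ 0) :
    ∃ u', (∀ a, B (psi h hN a u') u' = 0) ∧ B (psi h hN (xx F d ^ (d - 1)) u') v ≠ 0 := by
  have : Finite (skew : Submodule F (Tr F d)) := Module.finite_of_finite F
  have : Finite (Module.Dual F (skew : Submodule F (Tr F d))) := Module.finite_of_finite F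
  let ψ := psi h hN
  let Θ : ↥(skew : Submodule F (Tr F d)) → Module.Dual F (skew : Submodule F (Tr F d)) := fun b =>
    ((B.flip (u + ψ b.1 v)).comp ((LinearMap.applyₗ (u + ψ b.1 v)).comp ψ.toLinearMap)).comp
      (Submodule.subtype _)
  have hΘ : ∀ b a : (skew : Submodule F (Tr F d)), Θ b a =
      B (ψ a u) u - 2 * B (ψ (b.1 * a.1) u) v - B (ψ (a.1 * b.1 * b.1) v) v := by
    intro b a
    show B (ψ a (u + ψ b v)) (u + ψ b v) = _
    have e1 : B (ψ a u) (ψ b v) = -B (ψ (b.1 * a.1) u) v := by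
      rw [psi_two, mem_skew.1 b.2, neg_mul, map_neg, LinearMap.neg_apply, map_neg, LinearMap.neg_apply]
    have e2 : B (ψ a (ψ b v)) u = B (ψ a u) (ψ b v) := by
      rw [psi_adj, mem_skew.1 a.2, map_neg, LinearMap.neg_apply, map_neg, alt_swap hA, neg_neg]
    have e3 : B (ψ a (ψ b v)) (ψ b v) = -B (ψ (a.1 * b.1 * b.1) v) v := by
      rw [← Module.End.mul_apply, ← map_mul, psi_two, mem_skew.1 b.2, neg_mul, map_neg,
        LinearMap.neg_apply, map_neg, LinearMap.neg_apply, mul_comm]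
    simp only [map_add, LinearMap.add_apply, e2, e1, e3]
    ring
  have hinj : Function.Injective Θ := by
    intro b b' hbb
    by_contra hne
    obtain ⟨a, ha, hab⟩ := exists_skew_socle h2 hd hodd
      (Submodule.sub_mem _ b.2 b'.2) (sub_ne_zero.2 fun e => hne (Subtype.ext e))
    have hs := skew_mul_soc h2 hd hodd (Submodule.add_mem _ b.2 b'.2)
    have heq : a * b.1 * b.1 = a * b'.1 * b'.1 :=
      sub_eq_zero.1 (by rw [← hs, ← hab]; ring)
    have := LinearMap.congr_fun hbb ⟨a, ha⟩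
    rw [hΘ, hΘ] at this
    simp only [heq] at this
    refine huv ?_
    rw [← hab, mul_sub, mul_comm a, mul_comm a, map_sub, LinearMap.sub_apply, map_sub,
      LinearMap.sub_apply]
    exact (mul_eq_zero.1 (show 2 * (B (ψ (b.1 * a) u) v - B (ψ (b'.1 * a) u) v) = 0 by
      linear_combination -this)).resolve_left h2
  obtain ⟨b, hb⟩ := (Nat.bijective_iff_injective_and_card Θ).2
    ⟨hinj, by rw [Module.natCard_eq_pow_finrank (K := F), Module.natCard_eq_pow_finrank (K := F)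
      (V := Module.Dual F _), Subspace.dual_finrank_eq]⟩ |>.2 0
  refine ⟨u + ψ b v, iso_of_skew hA h hN h2 _ fun a ha => LinearMap.congr_fun hb ⟨a, ha⟩, ?_⟩
  rw [map_add, ← Module.End.mul_apply, ← map_mul, mul_comm, skew_mul_soc h2 hd hodd b.2, map_zero,
    LinearMap.zero_apply, add_zero]
  exact huv

include hA in
/-- The partner, with symmetric pairing. -/
theorem exists_iso_partner (h2 : (2 : F) ≠ 0) (hd : 1 ≤ d) (hodd : Odd d) (u v : V)
    (hu : ∀ a, B (psi h hN a u) u = 0)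
    (huv : B (psi h hN (xx F d ^ (d - 1)) u) v ≠ 0) :
    ∃ v', (∀ a, B (psi h hN a v') v' = 0) ∧ (∀ a, B (psi h hN (sig a) u) v' = B (psi h hN a u) v') ∧
      B (psi h hN (xx F d ^ (d - 1)) u) v' ≠ 0 := by
  set S₀ := xx F d ^ (d - 1)
  have hS : S₀ ∉ (skew : Submodule F (Tr F d)) := by
    intro hs
    rw [mem_skew, sig_soc hd hodd] at hs
    have e : (2 : F) • S₀ = 0 := by rw [two_smul]; exact eq_neg_iff_add_eq_zero.1 hs
    exact xx_pow_ne (show d - 1 < d by omega) ((smul_eq_zero.1 e).resolve_left h2)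
  obtain ⟨φ, hφS, hφ0⟩ := Submodule.exists_dual_map_eq_bot_of_notMem hS inferInstance
  have hφ : ∀ a ∈ (skew : Submodule F (Tr F d)), φ a = 0 := by
    intro a ha
    have : φ a ∈ Submodule.map φ (skew : Submodule F (Tr F d)) := ⟨a, ha, rfl⟩
    rwa [hφ0, Submodule.mem_bot] at this
  let ψ := psi h hN
  let M : Tr F d →ₗ[F] Module.Dual F (Tr F d) :=
    (LinearMap.mul F (Tr F d)).compr₂ ((B.flip v).comp ((LinearMap.applyₗ u).comp ψ.toLinearMap))
  have hM : ∀ t z, M t z = B (ψ (t * z) u) v := fun t z => rfl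
  have hMinj : Function.Injective M := by
    rw [← LinearMap.ker_eq_bot, LinearMap.ker_eq_bot']
    intro t ht
    by_contra hne
    obtain ⟨s, hs⟩ := exists_socle_one hd hne
    have := LinearMap.congr_fun ht s
    rw [hM, mul_comm, hs] at this
    exact huv this
  obtain ⟨t, ht⟩ := (LinearMap.injective_iff_surjective_of_finrank_eq_finrank
    Subspace.dual_finrank_eq.symm).1 hMinj φ
  set v₀ := ψ (sig t) v
  have hv₀ : ∀ z, B (ψ z u) v₀ = φ z := by
    intro z
    show B (ψ z u) (ψ (sig t) v) = _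
    rw [psi_two, sig_sig, ← hM, ht]
  -- kill the form on `v₀`
  let L : (skew : Submodule F (Tr F d)) →ₗ[F] Module.Dual F (skew : Submodule F (Tr F d)) :=
    (2 : F) • ((LinearMap.mul F (Tr F d)).compr₂ φ).compl₁₂ (Submodule.subtype _) (Submodule.subtype _)
  have hL : ∀ b a, L b a = 2 * φ (b.1 * a.1) := fun b a => rfl
  have hLinj : Function.Injective L := by
    rw [← LinearMap.ker_eq_bot, LinearMap.ker_eq_bot']
    intro b hb
    by_contra hne
    obtain ⟨a, ha, hab⟩ := exists_skew_socle h2 hd hodd b.2 (fun e => hne (Subtype.ext e))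
    have := LinearMap.congr_fun hb ⟨a, ha⟩
    rw [hL, mul_comm b.1, hab] at this
    exact hφS ((mul_eq_zero.1 this).resolve_left h2)
  obtain ⟨b, hb⟩ := (LinearMap.injective_iff_surjective_of_finrank_eq_finrank
    Subspace.dual_finrank_eq.symm).1 hLinj
      (-(((B.flip v₀).comp ((LinearMap.applyₗ v₀).comp ψ.toLinearMap)).comp (Submodule.subtype _)))
  have hw : ∀ z, B (ψ z u) (v₀ + ψ b u) = φ z := by
    intro z
    rw [map_add, hv₀, psi_two, hu, add_zero]
  refine ⟨v₀ + ψ b u, iso_of_skew hA h hN h2 _ fun a ha => ?_, fun a => ?_, ?_⟩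
  · have adjr : ∀ y p q, B p (ψ y q) = B (ψ (sig y) p) q := fun y p q => by
      rw [psi_adj, sig_sig]
    have e1 : B (ψ a v₀) (ψ b u) = φ (b.1 * a) := by
      rw [psi_two, alt_swap hA, adjr, hv₀, map_mul, sig_sig, mem_skew.1 ha, mul_neg, map_neg, neg_neg]
    have e2 : B (ψ a (ψ b u)) v₀ = B (ψ a v₀) (ψ b u) := by
      rw [psi_adj, mem_skew.1 ha, map_neg, LinearMap.neg_apply, map_neg, alt_swap hA, neg_neg]
    have e3 : B (ψ a (ψ b u)) (ψ b u) = 0 := by
      rw [← Module.End.mul_apply, ← map_mul, psi_two, hu]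
    have := LinearMap.congr_fun hb ⟨a, ha⟩
    rw [hL] at this
    show B (ψ a (v₀ + ψ b u)) (v₀ + ψ b u) = 0
    simp only [map_add, LinearMap.add_apply, e2, e1, e3]
    have h3 : B (ψ a v₀) v₀ = -(2 * φ (b.1 * a)) := by rw [this]; exact (neg_neg _).symm
    rw [h3]; ring
  · rw [hw, hw]
    have := hφ _ (sub_sig_mem_skew a)
    rw [map_sub, sub_eq_zero] at this
    exact this.symm
  · rw [hw]; exact hφS

include hA in
/-- `-h` on a regular pair is a commutator. -/
theorem isCom_neg_unip (hB : B.Nondegenerate) (h2 : (2 : F) ≠ 0) (hd : 1 ≤ d) (hodd : Odd d)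
    (hfr : finrank F V = 2 * d) (u₀ v₀ : V)
    (huv₀ : B (psi h hN (xx F d ^ (d - 1)) u₀) v₀ ≠ 0) : IsCom (negI h) := by
  obtain ⟨u, hu, huv₁⟩ := exists_iso_gen hA h hN h2 hd hodd u₀ v₀ huv₀
  obtain ⟨v, hv, hsym, huv⟩ := exists_iso_partner hA h hN h2 hd hodd u v₀ hu huv₁
  have hso : ∀ p, B (psi h hN (xx F d ^ (d - 1)) p) p = 0 :=
    psi_sym_alt hA h hN h2 (sig_soc hd hodd)
  set ψ := psi h hN
  let Φ₀ : (Tr F d × Tr F d) →ₗ[F] V :=
    ((LinearMap.applyₗ u).comp ψ.toLinearMap).coprod ((LinearMap.applyₗ v).comp ψ.toLinearMap)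
  have hinj : Function.Injective Φ₀ := psi_pair_injective h hN hd hA hso huv
  have hdim : finrank F (Tr F d × Tr F d) = finrank F V := by
    rw [Module.finrank_prod, finrank_tr, hfr, two_mul]
  let Φ : (Tr F d × Tr F d) ≃ₗ[F] V := LinearEquiv.ofBijective Φ₀
    ⟨hinj, (LinearMap.injective_iff_surjective_of_finrank_eq_finrank hdim).1 hinj⟩
  have hΦ : ∀ z, Φ z = ψ z.1 u + ψ z.2 v := fun z => rfl
  let φ : Tr F d →ₗ[F] F := (B.flip v).comp ((LinearMap.applyₗ u).comp ψ.toLinearMap)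
  have hφ : ∀ a, φ a = B (ψ a u) v := fun a => rfl
  have hform : ∀ z z', B (Φ z) (Φ z') = φ (sig z'.2 * z.1 - sig z.2 * z'.1) := by
    intro z z'
    rw [hΦ, hΦ, map_sub, hφ, hφ]
    simp only [map_add, LinearMap.add_apply]
    rw [psi_two (a := z.1) (b := z'.1), hu, psi_two (a := z.2) (b := z'.2), hv,
      psi_two (a := z.1) (b := z'.2), alt_swap hA (ψ z.2 v) (ψ z'.1 u),
      psi_two (a := z'.1) (b := z.2)]
    ring
  have hφsig : ∀ a, φ (sig a) = φ a := hsym
  have mk : ∀ T : (Tr F d × Tr F d) →ₗ[F] Tr F d × Tr F d,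
      (∀ z z', φ (sig (T z').2 * (T z).1 - sig (T z).2 * (T z').1) =
        φ (sig z'.2 * z.1 - sig z.2 * z'.1)) →
      ∃ P : Isom B, ∀ z, P.1 (Φ z) = Φ (T z) := by
    intro T hT
    let f : V →ₗ[F] V := Φ.toLinearMap.comp (T.comp Φ.symm.toLinearMap)
    have hf : ∀ x y, B (f x) (f y) = B x y := by
      intro x y
      obtain ⟨z, rfl⟩ := Φ.surjective x
      obtain ⟨z', rfl⟩ := Φ.surjective y
      simp only [f, LinearMap.comp_apply, LinearEquiv.coe_coe, LinearEquiv.symm_apply_apply]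
      rw [hform, hform, hT]
    have hfi : Function.Injective f := by
      intro x y hxy
      refine sub_eq_zero.1 (hB.1 _ fun w => ?_)
      rw [map_sub, LinearMap.sub_apply, ← hf x w, ← hf y w, hxy, sub_self]
    refine ⟨⟨LinearEquiv.ofBijective f ⟨hfi, LinearMap.injective_iff_surjective.1 hfi⟩, hf⟩, fun z => ?_⟩
    show f (Φ z) = _
    simp only [f, LinearMap.comp_apply, LinearEquiv.coe_coe, LinearEquiv.symm_apply_apply]
  -- the scalars
  obtain ⟨p, hp⟩ := CharP.exists F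
  have hpp : p.Prime := (CharP.char_is_prime_or_zero F p).resolve_right (CharP.char_ne_zero_of_finite F p)
  have : Fact p.Prime := ⟨hpp⟩
  have hp2 : p ≠ 2 := fun e => h2 (by subst e; exact_mod_cast CharP.cast_eq_zero F 2)
  obtain ⟨x, y, hxy⟩ : ∃ x y : F, x ^ 2 + y ^ 2 = -1 := by
    obtain ⟨a, b, hab⟩ := CharP.sq_add_sq F p (-1)
    exact ⟨a, b, by rw [hab]; simp⟩
  set X₁ := algebraMap F (Tr F d) x
  set Y₁ := algebraMap F (Tr F d) y
  have hXY : X₁ ^ 2 + Y₁ ^ 2 = -1 := by rw [← map_pow, ← map_pow, ← map_add, hxy, map_neg, map_one]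
  have hsX : sig X₁ = X₁ := sig.commutes x
  have hsY : sig Y₁ = Y₁ := sig.commutes y
  have : Nontrivial (Tr F d) := ⟨⟨xx F d ^ (d - 1), 0, xx_pow_ne (by omega)⟩⟩
  have : CharP (Tr F d) p := charP_of_injective_algebraMap (algebraMap F (Tr F d)).injective p
  set G := (gam (F := F) (d := d) : Tr F d)
  have hGp : G ^ p ^ d = 1 := by
    show (gam (F := F) (d := d) : Tr F d) ^ p ^ d = 1
    rw [gam_val, add_pow_char_pow, one_pow, xx_pow_of_le (Nat.lt_pow_self hpp.one_lt).le, add_zero]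
  obtain ⟨n, hn⟩ : ∃ n, p ^ d + 1 = n + n := by
    obtain ⟨k, hk⟩ := (hpp.odd_of_ne_two hp2).pow (n := d)
    exact ⟨k + 1, by omega⟩
  set c := G ^ n
  have hcc : c * c = G := by rw [← pow_add, ← hn, pow_succ, hGp, one_mul]
  have hcs : c * sig c = 1 := by
    rw [map_pow, sig_gam, ← mul_pow, Units.mul_inv, one_pow]
  set w := sig c
  have hGw : G * w = c := by rw [← hcc, mul_assoc, hcs, mul_one]
  -- the two factors
  let TP : (Tr F d × Tr F d) →ₗ[F] Tr F d × Tr F d :=
    (sig.toLinearMap.comp (LinearMap.snd F _ _)).prod (-(sig.toLinearMap.comp (LinearMap.fst F _ _)))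
  let TQ : (Tr F d × Tr F d) →ₗ[F] Tr F d × Tr F d :=
    ((LinearMap.mulLeft F (w * X₁)).comp (LinearMap.fst F _ _) +
      (LinearMap.mulLeft F (w * Y₁)).comp (LinearMap.snd F _ _)).prod
    ((LinearMap.mulLeft F (w * Y₁)).comp (LinearMap.fst F _ _) -
      (LinearMap.mulLeft F (w * X₁)).comp (LinearMap.snd F _ _))
  have hTP : ∀ z, TP z = (sig z.2, -sig z.1) := fun z => rfl
  have hTQ : ∀ z, TQ z = (w * X₁ * z.1 + w * Y₁ * z.2, w * Y₁ * z.1 - w * X₁ * z.2) := fun z => rfl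
  obtain ⟨P, hP⟩ := mk TP fun z z' => by
    simp only [hTP, map_neg, sig_sig]
    rw [show -z'.1 * sig z.2 - -z.1 * sig z'.2 = sig z'.2 * z.1 - sig z.2 * z'.1 by ring]
  obtain ⟨Q, hQ⟩ := mk TQ fun z z' => by
    simp only [hTQ]
    have hww : sig w * w = 1 := by rw [show w = sig c from rfl, sig_sig, hcs]
    have e1 : φ (sig z'.1 * z.1) = φ (sig z.1 * z'.1) := by
      rw [← hφsig (sig z'.1 * z.1), map_mul, sig_sig, mul_comm]
    have e2 : φ (sig z'.2 * z.2) = φ (sig z.2 * z'.2) := by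
      rw [← hφsig (sig z'.2 * z.2), map_mul, sig_sig, mul_comm]
    have e3 : φ (sig z'.1 * z.2) = φ (sig z.2 * z'.1) := by
      rw [← hφsig (sig z'.1 * z.2), map_mul, sig_sig, mul_comm]
    have e4 : φ (sig z.1 * z'.2) = φ (sig z'.2 * z.1) := by
      rw [← hφsig (sig z.1 * z'.2), map_mul, sig_sig, mul_comm]
    calc φ _ = φ ((x * y) • (sig z'.1 * z.1 - sig z.1 * z'.1) + (x * y) • (sig z.2 * z'.2 - sig z'.2 * z.2)
          + (y * y) • (sig z'.1 * z.2 - sig z.1 * z'.2) + (x * x) • (sig z.2 * z'.1 - sig z'.2 * z.1)) := by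
          congr 1
          simp only [Algebra.smul_def, map_mul, map_add, map_sub, hsX, hsY]
          linear_combination ((X₁ * Y₁) * (sig z'.1 * z.1 - sig z.1 * z'.1) +
            (X₁ * Y₁) * (sig z.2 * z'.2 - sig z'.2 * z.2) +
            (Y₁ * Y₁) * (sig z'.1 * z.2 - sig z.1 * z'.2) +
            (X₁ * X₁) * (sig z.2 * z'.1 - sig z'.2 * z.1)) * hww
      _ = _ := by
          simp only [map_add, map_sub, map_smul, smul_eq_mul, e1, e2, e3, e4]
          linear_combination (φ (sig z.2 * z'.1) - φ (sig z'.2 * z.1)) * hxy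
  refine ⟨P, Q, ?_⟩
  rw [eq_mul_inv_iff_mul_eq, eq_mul_inv_iff_mul_eq, mul_assoc]
  refine Subtype.ext (LinearEquiv.ext fun z₀ => ?_)
  obtain ⟨z, rfl⟩ := Φ.surjective z₀
  show (negI h).1 (Q.1 (P.1 (Φ z))) = P.1 (Q.1 (Φ z))
  rw [negI_apply, hP, hQ, hQ, hP]
  have hh : ∀ z', h.1 (Φ z') = Φ (G * z'.1, G * z'.2) := by
    intro z'
    rw [hΦ, hΦ, map_mul, map_mul, Module.End.mul_apply, Module.End.mul_apply, psi_gam]
    exact map_add h.1 _ _
  rw [hh, ← map_neg]
  congr 1
  have hsw : sig w = c := sig_sig c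
  simp only [hTP, hTQ, map_add, map_sub, map_mul, hsX, hsY, hsw, Prod.neg_mk]
  rw [← hGw]
  refine Prod.ext ?_ ?_ <;> ring

end Cfsg.Agent.H69.OreSp
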