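import Cfsg.Agent.H69.OreSp.Trunc
import Cfsg.Agent.H69.OreSp.Pieces

/-!
The action of `F[X] / (X ^ d)` through a unipotent isometry.
-/

set_option autoImplicit false
set_option linter.unusedSectionVars false

namespace Cfsg.Agent.H69.OreSp

open Cfsg.Agent.Symplectic Module Polynomial
open LinearMap (BilinForm)

variable {F V : Type*} [Field F] [AddCommGroup V] [Module F V] [FiniteDimensional F V]
  {B : BilinForm F V} {d : ℕ} (h : Isom B)
  (hN : (h.1.toLinearMap - 1 : Module.End F V) ^ d = 0)

/-- `x` acts as `h - 1`. -/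
noncomputable def psi : Tr F d →ₐ[F] Module.End F V :=
  Ideal.Quotient.liftₐ _ (aeval (h.1.toLinearMap - 1 : Module.End F V)) fun p hp => by
    obtain ⟨q, rfl⟩ := Ideal.mem_span_singleton'.1 hp
    rw [map_mul, map_pow, aeval_X, hN, mul_zero]

theorem psi_mk (p : F[X]) :
    psi h hN (AdjoinRoot.mk _ p) = aeval (h.1.toLinearMap - 1 : Module.End F V) p :=
  rfl

theorem psi_xx : psi h hN (xx F d) = h.1.toLinearMap - 1 := by
  rw [xx_eq_mk, psi_mk, aeval_X]

theorem psi_gam : psi h hN (gam (F := F) (d := d) : Tr F d) = h.1.toLinearMap := by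
  rw [gam_val, map_add, map_one, psi_xx, add_sub_cancel]

theorem psi_gam_inv : psi h hN ((gam (F := F) (d := d))⁻¹).1 = h.1.symm.toLinearMap := by
  have e : psi h hN ((gam (F := F) (d := d))⁻¹).1 * h.1.toLinearMap = 1 := by
    rw [← psi_gam h hN, ← map_mul, Units.inv_mul, map_one]
  refine LinearMap.ext fun v => ?_
  have := LinearMap.congr_fun e (h.1.symm v)
  rwa [Module.End.mul_apply, LinearEquiv.coe_coe, LinearEquiv.apply_symm_apply] at this

theorem psi_xb : psi h hN xb = h.1.symm.toLinearMap - 1 := by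
  rw [xb, map_sub, map_one, psi_gam_inv]

theorem psi_xx_apply (v : V) : psi h hN (xx F d) v = h.1 v - v := by
  rw [psi_xx]; rfl

theorem psi_adj (a : Tr F d) : ∀ p q, B (psi h hN a p) q = B p (psi h hN (sig a) q) := by
  induction a using AdjoinRoot.induction_on with
  | ih P =>
    induction P using Polynomial.induction_on with
    | C c =>
      intro p q
      rw [AdjoinRoot.mk_C, ← AdjoinRoot.algebraMap_eq, AlgHom.commutes, AlgHom.commutes, AlgHom.commutes]
      simp
    | add P Q hP hQ => intro p q; simp only [map_add, LinearMap.add_apply, hP, hQ]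
    | monomial n c ih =>
      intro p q
      rw [pow_succ, ← mul_assoc, map_mul _ _ X, map_mul (psi h hN), Module.End.mul_apply, ih,
        ← xx_eq_mk, mul_comm _ (xx F d), map_mul sig, map_mul (psi h hN), Module.End.mul_apply,
        sig_xx, psi_xb, psi_xx_apply, LinearMap.sub_apply, Module.End.one_apply, LinearEquiv.coe_coe,
        map_sub, LinearMap.sub_apply, map_sub (B p)]
      set w := psi h hN (sig (AdjoinRoot.mk _ (C c * X ^ n))) q
      congr 1
      rw [← h.2 p (h.1.symm w), LinearEquiv.apply_symm_apply]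

theorem psi_two (a b : Tr F d) (u v : V) :
    B (psi h hN a u) (psi h hN b v) = B (psi h hN (sig b * a) u) v := by
  rw [map_mul, Module.End.mul_apply, psi_adj h hN (sig b), sig_sig]

theorem psi_fix_alt (hA : B.IsAlt) (p : F[X]) (w : V) :
    B (psi h hN (aeval mm p) w) w = 0 := by
  have e : psi h hN mm = aeval (h.1.toLinearMap + h.1.symm.toLinearMap : Module.End F V) (X - C 2 : F[X]) := by
    rw [mm, map_add, psi_xx, psi_xb, map_sub, aeval_X, aeval_C, map_ofNat, ← one_add_one_eq_two]
    abel
  rw [← aeval_algHom_apply, e, ← aeval_comp]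
  exact poly_sum_alt hA h _ w

variable (hd : 1 ≤ d) (hA : B.IsAlt)
  (hso : ∀ p, B (psi h hN (xx F d ^ (d - 1)) p) p = 0) {u v : V}
  (huv : B (psi h hN (xx F d ^ (d - 1)) u) v ≠ 0)

include hd hA hso huv

theorem psi_indep {a b : Tr F d}
    (hab : ∀ a' b', B (psi h hN a u + psi h hN b v) (psi h hN a' u + psi h hN b' v) = 0) :
    a = 0 ∧ b = 0 := by
  set X₀ := psi h hN (xx F d ^ (d - 1))
  have hvu : B (X₀ v) u = -B (X₀ u) v := by
    have := hso (u + v)
    simp only [map_add, LinearMap.add_apply, hso u, hso v] at this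
    linear_combination this
  by_contra hne
  obtain ⟨t, α, β, hα, hβ, hαβ⟩ := exists_socle hd hne
  have hz : psi h hN t (psi h hN a u + psi h hN b v) = α • X₀ u + β • X₀ v := by
    rw [map_add, ← Module.End.mul_apply, ← Module.End.mul_apply, ← map_mul, ← map_mul, hα, hβ,
      map_smul, map_smul, LinearMap.smul_apply, LinearMap.smul_apply]
  have h1 : B (α • X₀ u + β • X₀ v) v = 0 := by
    rw [← hz, psi_adj]
    simpa using hab 0 (sig t)
  have h2 : B (α • X₀ u + β • X₀ v) u = 0 := by
    rw [← hz, psi_adj]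
    simpa using hab (sig t) 0
  simp only [map_add, map_smul, LinearMap.add_apply, LinearMap.smul_apply, smul_eq_mul, hso v, hso u,
    hvu, mul_zero, add_zero, zero_add, mul_neg, neg_eq_zero, mul_eq_zero, huv, or_false] at h1 h2
  exact hαβ ⟨h1, h2⟩

theorem psi_pair_injective :
    Function.Injective (((LinearMap.applyₗ u).comp (psi h hN).toLinearMap).coprod
      ((LinearMap.applyₗ v).comp (psi h hN).toLinearMap)) := by
  rw [← LinearMap.ker_eq_bot, LinearMap.ker_eq_bot']
  rintro ⟨a, b⟩ h0
  have h0' : psi h hN a u + psi h hN b v = 0 := h0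
  obtain ⟨ha, hb⟩ := psi_indep h hN hd hA hso huv (a := a) (b := b) fun a' b' => by
    rw [h0', map_zero, LinearMap.zero_apply]
  rw [ha, hb, Prod.mk_eq_zero]
  exact ⟨rfl, rfl⟩

end Cfsg.Agent.H69.OreSp
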